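import Groth.Agent.ExistEasy.Setup

/-!
# Formal modules presented as kernels of maps of completions
-/

universe u

set_option backward.isDefEq.respectTransparency false
set_option backward.isDefEq.respectTransparency.types false

open CategoryTheory CategoryTheory.Limits AlgebraicGeometry TopologicalSpace Opposite

noncomputable section

namespace Groth.Agent.ExistEasy

open Groth.Agent Groth.Agent.FFun

attribute [local instance] QCoh.hasFiniteBiproducts

variable {A : Type u} [CommRing A] {X : Scheme.{u}} [X.Over (Spec (CommRingCat.of A))]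

/-- The map induced on `M / J M`. -/
abbrev mapJ (J : Ideal A) {M N : X.Modules} (f : M ⟶ N) : modJ J M ⟶ modJ J N :=
  descJ (f ≫ modJπ J N) (le_killIdeal_modJ J N)

theorem π_mapJ (J : Ideal A) {M N : X.Modules} (f : M ⟶ N) :
    modJπ J M ≫ mapJ J f = f ≫ modJπ J N := π_descJ _ _

/-- A formal module which is pro-injectively the kernel of the completion of `φ : P ⟶ Q` is the completion of
`kernel φ`. -/
theorem exists_iso_completion_kernel [IsNoetherian X] {I : Ideal A} {F : ℕᵒᵖ ⥤ X.Modules}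
    (hF : Formal.IsCohFormal I F) {P Q : X.Modules} (hP : Coh.IsCoh P) (hQ : Coh.IsCoh Q) (φ : P ⟶ Q)
    (π : ∀ n, F.obj (op n) ⟶ modJ (I ^ (n + 1)) P)
    (hπ : ∀ {j n : ℕ} (h : j ≤ n),
      π n ≫ trJ (Ideal.pow_le_pow_right (Nat.succ_le_succ h)) P = ARSys.tr F h ≫ π j)
    (hex : ∀ n {T : X.Modules} (t : T ⟶ modJ (I ^ (n + 1)) P), t ≫ mapJ (I ^ (n + 1)) φ = 0 →
      ∃ (T' : X.Modules) (p : T' ⟶ T) (_ : Epi p) (x : T' ⟶ F.obj (op n)), p ≫ t = x ≫ π n)
    (hzero : ∀ n, π n ≫ mapJ (I ^ (n + 1)) φ = 0)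
    (hinj : ∀ j, ∃ (N : ℕ) (h : j ≤ N), ∀ {T : X.Modules} (t : T ⟶ F.obj (op N)),
      t ≫ π N = 0 → t ≫ ARSys.tr F h = 0) :
    Nonempty (Formal.completion I (kernel φ) ≅ F) := by
  choose lev hlev hinj using hinj
  let K := kernel φ
  let ι := kernel.ι φ
  have hK : Coh.IsCoh K := QCoh.isCoh_kernel hP hQ φ
  -- the maps to the formal module
  have hr : ∀ j, ∃ r : K ⟶ F.obj (op j), ∀ {n : ℕ} (hn : lev j ≤ n) {T : X.Modules} (g : T ⟶ K)
      (x : T ⟶ F.obj (op n)), g ≫ ι ≫ modJπ (I ^ (n + 1)) P = x ≫ π n →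
        g ≫ r = x ≫ ARSys.tr F ((hlev j).trans hn) := fun j => by
    obtain ⟨T₀, p₀, hp₀, x₀, hx₀⟩ := hex (lev j) (ι ≫ modJπ (I ^ (lev j + 1)) P) (by
      rw [Category.assoc, π_mapJ, ← Category.assoc, kernel.condition, zero_comp])
    haveI := hp₀
    have h0 : kernel.ι p₀ ≫ x₀ ≫ ARSys.tr F (hlev j) = 0 := by
      rw [← Category.assoc]
      refine hinj j _ ?_
      rw [Category.assoc, ← hx₀, ← Category.assoc, kernel.condition, zero_comp]
    refine ⟨Abelian.epiDesc p₀ _ h0, fun {n} hn {T} g x hx => ?_⟩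
    obtain ⟨T₁, p₁, hp₁, h, hh⟩ := surjective_up_to_refinements_of_epi p₀ g
    haveI := hp₁
    have h1 : (p₁ ≫ x ≫ ARSys.tr F hn - h ≫ x₀) ≫ π (lev j) = 0 := by
      rw [Preadditive.sub_comp, Category.assoc p₁, Category.assoc x, ← hπ hn, ← Category.assoc x, ← hx,
        Category.assoc h, ← hx₀, ← Category.assoc h, ← hh]
      simp only [Category.assoc]
      rw [π_descJ, sub_self]
    have h2 := hinj j _ h1
    rw [Preadditive.sub_comp, sub_eq_zero, Category.assoc p₁, Category.assoc x, Algz7.tr_trans,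
      Category.assoc h] at h2
    rw [← cancel_epi p₁, h2, ← Category.assoc, hh, Category.assoc, Abelian.comp_epiDesc]
  choose r hr using hr
  have hlift : ∀ n, ∃ (T₀ : X.Modules) (p₀ : T₀ ⟶ K) (_ : Epi p₀) (x₀ : T₀ ⟶ F.obj (op n)),
      p₀ ≫ ι ≫ modJπ (I ^ (n + 1)) P = x₀ ≫ π n := fun n =>
    hex n (ι ≫ modJπ (I ^ (n + 1)) P) (by
      rw [Category.assoc, π_mapJ, ← Category.assoc, kernel.condition, zero_comp])
  have hrtr : ∀ {j k : ℕ} (h : j ≤ k), r k ≫ ARSys.tr F h = r j := fun {j k} h => by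
    obtain ⟨T₀, p₀, hp₀, x₀, hx₀⟩ := hlift (max (lev j) (lev k))
    haveI := hp₀
    rw [← cancel_epi p₀, ← Category.assoc, hr k (le_max_right _ _) p₀ x₀ hx₀,
      hr j (le_max_left _ _) p₀ x₀ hx₀, Category.assoc, Algz7.tr_trans]
  obtain ⟨c, hc⟩ := artinRees I hP hQ φ
  have hepi : ∀ j, Epi (r j) := fun j => by
    let n := lev j + c
    have hjn : j ≤ n := (hlev j).trans (Nat.le_add_right _ _)
    haveI := Algz7.epi_tr hF hjn
    obtain ⟨T₁, p₁, hp₁, p, hp⟩ := surjective_up_to_refinements_of_epi (modJπ (I ^ (n + 1)) P) (π n)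
    haveI := hp₁
    have hpφ : p ≫ φ ≫ modJπ (I ^ (n + 1)) Q = 0 := by
      rw [← π_mapJ, ← Category.assoc, ← hp, Category.assoc, hzero, comp_zero]
    obtain ⟨T₂, p₂, hp₂, g₀, g₁, he, h0, h1⟩ := hc (n + 1) (by show c ≤ lev j + c + 1; omega) p hpφ
    haveI := hp₂
    have hx : kernel.lift φ g₀ h0 ≫ ι ≫ modJπ (I ^ (lev j + 1)) P =
        (p₂ ≫ p₁ ≫ ARSys.tr F (Nat.le_add_right (lev j) c)) ≫ π (lev j) := by
      rw [kernel.lift_ι_assoc, eq_sub_of_add_eq he.symm, Preadditive.sub_comp,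
        modJπ_le (Ideal.pow_le_pow_right (show lev j + 1 ≤ n + 1 - c by show _ ≤ lev j + c + 1 - c; omega)) h1,
        sub_zero, Category.assoc, Category.assoc, Category.assoc, ← hπ, ← Category.assoc p₁, hp,
        Category.assoc, π_descJ]
    have key := hr j le_rfl _ _ hx
    rw [Category.assoc, Category.assoc, Algz7.tr_trans] at key
    haveI : Epi (kernel.lift φ g₀ h0 ≫ r j) := by rw [key]; infer_instance
    exact epi_of_epi (kernel.lift φ g₀ h0) _
  obtain ⟨c', hc'⟩ := artinRees I hK hP ι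
  have hdeep : ∀ j, kernel.ι (r (j + c')) ≫ modJπ (I ^ (j + 1)) K = 0 := fun j => by
    let n := j + c'
    obtain ⟨T₀, p₀, hp₀, x₀, hx₀⟩ := hlift (lev n)
    haveI := hp₀
    obtain ⟨T₁, p₁, hp₁, g, hg⟩ := surjective_up_to_refinements_of_epi p₀ (kernel.ι (r n))
    haveI := hp₁
    have hgr : g ≫ x₀ ≫ ARSys.tr F ((hlev n).trans le_rfl) = 0 := by
      rw [← hr n le_rfl p₀ x₀ hx₀, ← Category.assoc, ← hg, Category.assoc, kernel.condition, comp_zero]
    have h0 : (g ≫ p₀) ≫ ι ≫ modJπ (I ^ (n + 1)) P = 0 := by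
      rw [← π_descJ (J := I ^ (lev n + 1)) (modJπ (I ^ (n + 1)) P) ((Ideal.pow_le_pow_right (I := I) (Nat.succ_le_succ (hlev n))).trans
        (le_killIdeal_modJ (I ^ (n + 1)) P)), Category.assoc, ← Category.assoc ι, ← Category.assoc p₀, hx₀, Category.assoc]
      show g ≫ x₀ ≫ π (lev n) ≫ trJ (Ideal.pow_le_pow_right (Nat.succ_le_succ (hlev n))) P = 0
      rw [hπ (hlev n), ← Category.assoc x₀, ← Category.assoc g, hgr, zero_comp]
    rw [← hg] at h0
    obtain ⟨T₂, p₂, hp₂, g₀, g₁, he, e0, e1⟩ := hc' (n + 1) (by show c' ≤ j + c' + 1; omega) _ h0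
    haveI := hp₂
    rw [show g₀ = 0 by rwa [← cancel_mono ι, zero_comp], zero_add] at he
    rw [← cancel_epi p₁, ← cancel_epi p₂, comp_zero, comp_zero, ← Category.assoc p₁, ← Category.assoc p₂, he]
    exact modJπ_le (Ideal.pow_le_pow_right (show j + 1 ≤ n + 1 - c' by show _ ≤ j + c' + 1 - c'; omega)) e1
  have hkill : ∀ n, I ^ (n + 1) ≤ killIdeal (F.obj (op n)) := fun n _ hb => hF.2.1 n _ hb
  let b₀ : ∀ n, (Formal.completion I K).obj (op n) ⟶ F.obj (op n) := fun n =>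
    descJ (J := I ^ (n + 1)) (r n) (hkill n)
  let β₀ : Formal.completion I K ⟶ F := NatTrans.ofOpSequence b₀ fun n => by
    rw [Algz7.completion_map_succ]
    refine (cancel_epi (modJπ (I ^ (n + 1 + 1)) K)).1 ?_
    show modJπ (I ^ (n + 1 + 1)) K ≫ Formal.modPowTrans I (n + 1) K ≫
        descJ (J := I ^ (n + 1)) (r n) (hkill n) =
      modJπ (I ^ (n + 1 + 1)) K ≫ descJ (J := I ^ (n + 1 + 1)) (r (n + 1)) (hkill (n + 1)) ≫ _
    rw [← Category.assoc, show modJπ (I ^ (n + 1 + 1)) K ≫ Formal.modPowTrans I (n + 1) K =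
      modJπ (I ^ (n + 1)) K from Formal.modPowπ_trans I (n + 1) K, π_descJ, π_descJ_assoc]
    exact (hrtr (Nat.le_succ n)).symm
  haveI : ∀ n : ℕᵒᵖ, IsIso (β₀.app n) := fun m => by
    obtain ⟨j⟩ := m
    haveI := hepi (j + c')
    haveI := hepi j
    obtain ⟨ρ, hρ⟩ := Algz7.factor hF (Nat.le_add_right j c')
      (fun b hb => le_killIdeal_modJ (I ^ (j + 1)) K hb) (Abelian.epiDesc (r (j + c')) _ (hdeep j))
    have h1 : r j ≫ ρ = modJπ (I ^ (j + 1)) K := by
      rw [← hrtr (Nat.le_add_right j c'), Category.assoc, hρ]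
      exact Abelian.comp_epiDesc _ _ _
    show IsIso (descJ (J := I ^ (j + 1)) (r j) (hkill j))
    refine ⟨ρ, ?_, ?_⟩
    · rw [← cancel_epi (modJπ (I ^ (j + 1)) K), π_descJ_assoc, h1, Category.comp_id]
    · rw [← cancel_epi (r j), ← Category.assoc, h1, π_descJ, Category.comp_id]
  haveI : IsIso β₀ := NatIso.isIso_of_isIso_app _
  exact ⟨asIso β₀⟩

end Groth.Agent.ExistEasy
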