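import Groth.Agent.ExistEasy.Setup
import Groth.Prelude.Def_Formal2

/-!
# Algebraizing a formal module mapping to a completion with kernels and cokernels killed by a power
-/

universe u

set_option backward.isDefEq.respectTransparency false
set_option backward.isDefEq.respectTransparency.types false

open CategoryTheory CategoryTheory.Limits AlgebraicGeometry TopologicalSpace Opposite

noncomputable section

namespace Groth.Agent.ExistEasy

open Groth.Agent Groth.Agent.FFun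

attribute [local instance] QCoh.hasFiniteBiproducts

variable {A : Type u} [CommRing A] {X : Scheme.{u}} [X.Over (Spec (CommRingCat.of A))]

theorem smulMod_naturality' {M N P : X.Modules} (f : M ⟶ N) (b : A) (g : N ⟶ P) :
    Formal.smulMod A M b ≫ f ≫ g = f ≫ Formal.smulMod A N b ≫ g := by
  rw [← Category.assoc, smulMod_naturality, Category.assoc]

/-- A map from a formal module to a completion, with kernels and cokernels killed by `Iᶜ`. -/
structure LData (I : Ideal A) (F : ℕᵒᵖ ⥤ X.Modules) (c : ℕ) {σ : Type u} [Fintype σ] (a : σ → A) where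
  G : X.Modules
  isCoh : Coh.IsCoh G
  hF : Formal.IsCohFormal I F
  mem : ∀ i, a i ∈ I ^ c
  gen : ∀ M : X.Modules, Coh.IsQCoh M → (∀ i, Formal.smulMod A M (a i) = 0) → I ^ c ≤ killIdeal M
  ψ : ∀ n, F.obj (op n) ⟶ modJ (I ^ (n + 1)) G
  compat : ∀ {j n : ℕ} (h : j ≤ n),
    ψ n ≫ trJ (Ideal.pow_le_pow_right (Nat.succ_le_succ h)) G = ARSys.tr F h ≫ ψ j
  hcok : ∀ n, I ^ c ≤ killIdeal (cokernel (ψ n))
  hker : ∀ n {T : X.Modules} (t : T ⟶ F.obj (op n)), t ≫ ψ n = 0 → ∀ b ∈ I ^ c,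
    t ≫ Formal.smulMod A _ b = 0

variable {I : Ideal A} {F : ℕᵒᵖ ⥤ X.Modules} {c : ℕ} {σ : Type u} [Fintype σ] {a : σ → A}
variable (D : LData I F c a)

namespace LData

include D in
theorem killF {n k : ℕ} (h : n + 1 ≤ k) : I ^ k ≤ killIdeal (F.obj (op n)) :=
  fun _ hb => D.hF.2.1 n _ (Ideal.pow_le_pow_right h hb)

/-- The test map for the image. -/
abbrev χ : D.G ⟶ cokernel (D.ψ c) := modJπ (I ^ (c + 1)) D.G ≫ cokernel.π (D.ψ c)

theorem π_cok {T : X.Modules} (g : T ⟶ D.G) (hg : g ≫ D.χ = 0) (n : ℕ) :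
    (g ≫ modJπ (I ^ (n + 1)) D.G) ≫ cokernel.π (D.ψ n) = 0 := by
  rcases le_total c n with h | h
  · let d : modJ (I ^ (c + 1)) D.G ⟶ cokernel (D.ψ n) :=
      descJ (modJπ (I ^ (n + 1)) D.G ≫ cokernel.π (D.ψ n))
        ((Ideal.pow_le_pow_right (Nat.le_succ c)).trans (D.hcok n))
    have hd : trJ (Ideal.pow_le_pow_right (Nat.succ_le_succ h)) D.G ≫ d = cokernel.π (D.ψ n) := by
      rw [← cancel_epi (modJπ (I ^ (n + 1)) D.G), π_descJ_assoc, π_descJ]
    have hψd : D.ψ c ≫ d = 0 := by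
      haveI := Algz7.epi_tr D.hF h
      rw [← cancel_epi (ARSys.tr F h), ← Category.assoc, ← D.compat h, Category.assoc, hd,
        cokernel.condition, comp_zero]
    rw [Category.assoc, ← π_descJ (modJπ (I ^ (n + 1)) D.G ≫ cokernel.π (D.ψ n))
      ((Ideal.pow_le_pow_right (Nat.le_succ c)).trans (D.hcok n))]
    show g ≫ modJπ (I ^ (c + 1)) D.G ≫ d = 0
    rw [← cokernel.π_desc (D.ψ c) d hψd, ← Category.assoc (modJπ _ _), ← Category.assoc g, hg, zero_comp]
  · let d : cokernel (D.ψ c) ⟶ cokernel (D.ψ n) :=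
      cokernel.desc _ (trJ (Ideal.pow_le_pow_right (Nat.succ_le_succ h)) D.G ≫ cokernel.π (D.ψ n))
        (by rw [← Category.assoc, D.compat h, Category.assoc, cokernel.condition, comp_zero])
    have : D.χ ≫ d = modJπ (I ^ (n + 1)) D.G ≫ cokernel.π (D.ψ n) := by
      rw [χ, Category.assoc, cokernel.π_desc, π_descJ_assoc]
    rw [Category.assoc, ← this, ← Category.assoc, hg, zero_comp]

theorem χ_eq_zero {n : ℕ} (h : c ≤ n) {T : X.Modules} {g : T ⟶ D.G} {x : T ⟶ F.obj (op n)}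
    (hx : g ≫ modJπ (I ^ (n + 1)) D.G = x ≫ D.ψ n) : g ≫ D.χ = 0 := by
  rw [χ, ← π_descJ (modJπ (I ^ (c + 1)) D.G)
    ((Ideal.pow_le_pow_right (Nat.succ_le_succ h)).trans (le_killIdeal_modJ _ D.G)), ← Category.assoc g,
    ← Category.assoc g, hx]
  show ((x ≫ D.ψ n) ≫ trJ (Ideal.pow_le_pow_right (Nat.succ_le_succ h)) D.G) ≫ _ = 0
  rw [Category.assoc x, D.compat h, Category.assoc, Category.assoc, cokernel.condition, comp_zero, comp_zero]

/-- The part of `G` in the image. -/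
abbrev G' : X.Modules := kernel D.χ

abbrev κ : D.G' ⟶ D.G := kernel.ι D.χ

theorem exists_lift_F (n : ℕ) : ∃ (T' : X.Modules) (π : T' ⟶ D.G') (_ : Epi π) (x : T' ⟶ F.obj (op n)),
    π ≫ D.κ ≫ modJπ (I ^ (n + 1)) D.G = x ≫ D.ψ n :=
  refine_image (D.ψ n) _ (D.π_cok D.κ (kernel.condition _) n)

theorem exists_γ (i : σ) (n : ℕ) : ∃ γ : D.G' ⟶ F.obj (op n),
    ∀ {T : X.Modules} (g : T ⟶ D.G') (x : T ⟶ F.obj (op n)),
      g ≫ D.κ ≫ modJπ (I ^ (n + 1)) D.G = x ≫ D.ψ n → g ≫ γ = x ≫ Formal.smulMod A _ (a i) := by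
  obtain ⟨T₀, π₀, hπ₀, x₀, hx₀⟩ := D.exists_lift_F n
  haveI := hπ₀
  have h0 : kernel.ι π₀ ≫ x₀ ≫ Formal.smulMod A _ (a i) = 0 := by
    rw [← Category.assoc]
    refine D.hker n _ ?_ _ (D.mem i)
    rw [Category.assoc, ← hx₀, ← Category.assoc, kernel.condition, zero_comp]
  refine ⟨Abelian.epiDesc π₀ _ h0, fun {T} g x hx => ?_⟩
  obtain ⟨T₁, π₁, hπ₁, h, hh⟩ := surjective_up_to_refinements_of_epi π₀ g
  haveI := hπ₁
  have h1 : (π₁ ≫ x - h ≫ x₀) ≫ D.ψ n = 0 := by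
    rw [Preadditive.sub_comp, Category.assoc π₁, ← hx, Category.assoc h, ← hx₀, ← Category.assoc π₁ g, hh,
      Category.assoc, sub_self]
  have h2 := D.hker n _ h1 _ (D.mem i)
  rw [Preadditive.sub_comp, sub_eq_zero, Category.assoc π₁, Category.assoc h] at h2
  rw [← cancel_epi π₁, h2, ← Category.assoc, hh, Category.assoc, Abelian.comp_epiDesc]

/-- Multiplication by `a i`, from `G'`. -/
def γi (i : σ) (n : ℕ) : D.G' ⟶ F.obj (op n) := (D.exists_γ i n).choose

theorem γi_spec (i : σ) {n : ℕ} {T : X.Modules} (g : T ⟶ D.G') (x : T ⟶ F.obj (op n))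
    (h : g ≫ D.κ ≫ modJπ (I ^ (n + 1)) D.G = x ≫ D.ψ n) :
    g ≫ D.γi i n = x ≫ Formal.smulMod A _ (a i) :=
  (D.exists_γ i n).choose_spec g x h

theorem γi_tr (i : σ) {j n : ℕ} (h : j ≤ n) : D.γi i n ≫ ARSys.tr F h = D.γi i j := by
  obtain ⟨T₀, π₀, hπ₀, x₀, hx₀⟩ := D.exists_lift_F n
  haveI := hπ₀
  have hx : π₀ ≫ D.κ ≫ modJπ (I ^ (j + 1)) D.G = (x₀ ≫ ARSys.tr F h) ≫ D.ψ j := by
    rw [Category.assoc x₀, ← D.compat h, ← Category.assoc x₀, ← hx₀, Category.assoc, Category.assoc, π_descJ]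
  rw [← cancel_epi π₀, ← Category.assoc, D.γi_spec i π₀ x₀ hx₀, D.γi_spec i π₀ _ hx, Category.assoc,
    Category.assoc, smulMod_naturality]

/-- The cover of `Iᶜ F`. -/
abbrev E : X.Modules := ⨁ fun _ : σ => D.G'

/-- The cover map. -/
abbrev γ (n : ℕ) : D.E ⟶ F.obj (op n) := biproduct.desc fun i => D.γi i n

/-- The linear combination. -/
abbrev θ : D.E ⟶ D.G := biproduct.desc fun i => D.κ ≫ Formal.smulMod A D.G (a i)

theorem γ_tr {j n : ℕ} (h : j ≤ n) : D.γ n ≫ ARSys.tr F h = D.γ j := by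
  refine biproduct.hom_ext' _ _ fun i => ?_
  rw [biproduct.ι_desc_assoc, biproduct.ι_desc, D.γi_tr i h]

theorem γ_ψ (n : ℕ) : D.γ n ≫ D.ψ n = D.θ ≫ modJπ (I ^ (n + 1)) D.G := by
  refine biproduct.hom_ext' _ _ fun i => ?_
  rw [biproduct.ι_desc_assoc, biproduct.ι_desc_assoc]
  obtain ⟨T₀, π₀, hπ₀, x₀, hx₀⟩ := D.exists_lift_F n
  haveI := hπ₀
  rw [← cancel_epi π₀, ← Category.assoc, D.γi_spec i π₀ x₀ hx₀, Category.assoc, smulMod_naturality,
    ← Category.assoc x₀, ← hx₀, Category.assoc, Category.assoc, Category.assoc, smulMod_naturality]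

theorem isCoh_G' [IsNoetherian X] : Coh.IsCoh D.G' :=
  QCoh.isCoh_kernel D.isCoh
    (QCoh.isCoh_cokernel (D.hF.1 c).1 (isCoh_modJ _ D.isCoh) _) _

theorem isCoh_E [IsNoetherian X] : Coh.IsCoh D.E := QCoh.isCoh_biproduct _ fun _ => D.isCoh_G'

set_option maxHeartbeats 2000000 in
theorem exists_cover [IsNoetherian X] {k m N : ℕ} (hm : m + 1 = k + c) (hcm : c ≤ N) (hmN : m ≤ N)
    {T : X.Modules} (t : T ⟶ F.obj (op N)) (ht : t ≫ ARSys.tr F hmN = 0) :
    ∃ (T' : X.Modules) (π : T' ⟶ T) (_ : Epi π) (v : T' ⟶ D.E),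
      π ≫ t = v ≫ D.γ N ∧ v ≫ modJπ (I ^ k) D.E = 0 := by
  classical
  let e := kernel.ι (modJπ (I ^ k) D.E) ≫ D.γ N
  have hQc : Coh.IsCoh (cokernel e) :=
    QCoh.isCoh_cokernel (QCoh.isQCoh_kernel D.isCoh_E.1 (isCoh_modJ _ D.isCoh_E).1 _) (D.hF.1 N) e
  obtain ⟨T₀, π₀, hπ₀, g, hg⟩ := surjective_up_to_refinements_of_epi (modJπ (I ^ (N + 1)) D.G) (D.ψ N)
  haveI := hπ₀
  have hgχ : g ≫ D.χ = 0 := D.χ_eq_zero hcm hg.symm
  let g' := kernel.lift D.χ g hgχ
  have hg' : g' ≫ D.κ ≫ modJπ (I ^ (N + 1)) D.G = π₀ ≫ D.ψ N := by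
    rw [kernel.lift_ι_assoc]; exact hg.symm
  have hQ : I ^ (m + 1) ≤ killIdeal (cokernel e) := by
    rw [hm, pow_add]
    refine Ideal.mul_le.2 fun b' hb' b hb => ?_
    show Formal.smulMod A (cokernel e) (b' * b) = 0
    let f := Formal.smulMod A (cokernel e) b'
    have hW : Coh.IsQCoh (Abelian.coimage f) :=
      QCoh.isQCoh_cokernel (QCoh.isQCoh_kernel hQc.1 hQc.1 _) hQc.1 _
    have hWa : ∀ i, Formal.smulMod A (Abelian.coimage f) (a i) = 0 := fun i => by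
      have hb0 : (g' ≫ biproduct.ι (fun _ : σ => D.G') i ≫ Formal.smulMod A D.E b') ≫
          modJπ (I ^ k) D.E = 0 := by
        rw [Category.assoc, Category.assoc, smulMod_naturality,
          mem_killIdeal.1 (le_killIdeal_modJ _ _ hb'), comp_zero, comp_zero, comp_zero]
      have h1 : π₀ ≫ Formal.smulMod A _ (a i) ≫ Formal.smulMod A _ b' ≫ cokernel.π e = 0 := by
        rw [← Category.assoc π₀, ← D.γi_spec i g' π₀ hg', ← biproduct.ι_desc (fun i => D.γi i N) i,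
          Category.assoc, Category.assoc]
        show g' ≫ biproduct.ι (fun _ : σ => D.G') i ≫ D.γ N ≫ Formal.smulMod A _ b' ≫ cokernel.π e = 0
        rw [← smulMod_naturality' (D.γ N) b', ← Category.assoc (biproduct.ι (fun _ : σ => D.G') i), ← Category.assoc g',
          ← kernel.lift_ι _ _ hb0, Category.assoc]
        exact (congrArg (kernel.lift _ _ hb0 ≫ ·)
          ((Category.assoc _ _ _).symm.trans (cokernel.condition e))).trans comp_zero
      rw [← cancel_mono (Abelian.factorThruCoimage f), ← cancel_epi (Abelian.coimage.π f), zero_comp,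
        comp_zero, ← Category.assoc, ← smulMod_naturality, Category.assoc, Abelian.coimage.fac,
        ← cancel_epi (cokernel.π e), comp_zero, ← Category.assoc, ← smulMod_naturality,
        ← smulMod_naturality, ← Category.assoc, smulMod_comm, Category.assoc, ← cancel_epi π₀, comp_zero]
      exact h1
    have h0 : Formal.smulMod A (Abelian.coimage f) b = 0 := D.gen _ hW hWa hb
    rw [smulMod_mul]
    show Formal.smulMod A _ b ≫ f = 0
    rw [← Abelian.coimage.fac f, ← Category.assoc, smulMod_naturality, h0, comp_zero, zero_comp]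
  obtain ⟨ρ, hρ⟩ := Algz7.factor D.hF hmN (fun b hb => hQ hb) (cokernel.π e)
  obtain ⟨T', π, hπ, s, hs⟩ := refine_image e t (by rw [← hρ, ← Category.assoc, ht, zero_comp])
  refine ⟨T', π, hπ, s ≫ kernel.ι _, hs.trans (Category.assoc _ _ _).symm, ?_⟩
  rw [Category.assoc, kernel.condition, comp_zero]

theorem exists_deep [IsNoetherian X] : ∃ m c', c ≤ m ∧ ∀ {j N : ℕ} (hj : j ≤ N) (hm : m ≤ N),
    j + c' ≤ N → ∀ {T : X.Modules} (t : T ⟶ F.obj (op N)),
      t ≫ D.ψ N = 0 → t ≫ ARSys.tr F hm = 0 → t ≫ ARSys.tr F hj = 0 := by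
  obtain ⟨c₁, hc₁⟩ := artinRees I D.isCoh_E D.isCoh D.θ
  let W := kernel D.θ
  have hW : Coh.IsCoh W := QCoh.isCoh_kernel D.isCoh_E D.isCoh _
  obtain ⟨c₂, hc₂⟩ := artinRees I hW D.isCoh_E (kernel.ι D.θ)
  let k := c₂ + c + 1
  refine ⟨k + c - 1, c₁ + k, by omega, fun {j N} hj hm hjN T t ht htm => ?_⟩
  obtain ⟨T₁, π₁, hπ₁, v, hv1, hv2⟩ := D.exists_cover (k := k) (by omega) (by omega) hm t htm
  haveI := hπ₁
  have hθ : v ≫ D.θ ≫ modJπ (I ^ (N + 1)) D.G = 0 := by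
    rw [← D.γ_ψ, ← Category.assoc, ← hv1, Category.assoc, ht, comp_zero]
  obtain ⟨T₂, π₂, hπ₂, v₀, v₁, he, h0, h1⟩ := hc₁ (N + 1) (by omega) v hθ
  haveI := hπ₂
  have hv0 : v₀ ≫ modJπ (I ^ k) D.E = 0 := by
    rw [eq_sub_of_add_eq he.symm, Preadditive.sub_comp, Category.assoc, hv2, comp_zero,
      modJπ_le (Ideal.pow_le_pow_right (show k ≤ N + 1 - c₁ by omega)) h1, sub_zero]
  obtain ⟨T₃, π₃, hπ₃, w₀, w₁, he', h0', h1'⟩ := hc₂ k (by omega) (kernel.lift D.θ v₀ h0)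
    (by rw [kernel.lift_ι_assoc]; exact hv0)
  haveI := hπ₃
  rw [show w₀ = 0 by rwa [← cancel_mono (kernel.ι D.θ), zero_comp], zero_add] at he'
  have hWk : w₁ ≫ kernel.ι D.θ ≫ D.γ N = 0 := by
    let f := kernel.ι D.θ ≫ D.γ N
    have hq : Coh.IsQCoh (Abelian.coimage f) :=
      QCoh.isQCoh_cokernel (QCoh.isQCoh_kernel hW.1 (D.hF.1 N).1 _) hW.1 _
    have hfk : I ^ c ≤ killIdeal (Abelian.coimage f) := fun b hb => by
      rw [mem_killIdeal, ← cancel_mono (Abelian.factorThruCoimage f), ← cancel_epi (Abelian.coimage.π f),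
        zero_comp, comp_zero, smulMod_naturality, ← Category.assoc, Abelian.coimage.fac]
      refine D.hker N f ?_ b hb
      rw [Category.assoc, D.γ_ψ, ← Category.assoc, kernel.condition, zero_comp]
    show w₁ ≫ f = 0
    rw [← Abelian.coimage.fac f, ← Category.assoc, comp_eq_zero_of_killed _ hfk
      (modJπ_le (Ideal.pow_le_pow_right (show c ≤ k - c₂ by omega)) h1'), zero_comp]
  rw [← cancel_epi π₁, comp_zero, ← Category.assoc, hv1, Category.assoc, D.γ_tr, ← cancel_epi π₂, comp_zero,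
    ← Category.assoc, he, Preadditive.add_comp,
    comp_eq_zero_of_killed _ (D.killF (show j + 1 ≤ N + 1 - c₁ by omega)) h1, add_zero, ← cancel_epi π₃,
    comp_zero, ← kernel.lift_ι D.θ v₀ h0, ← D.γ_tr hj, Category.assoc, ← Category.assoc π₃, he',
    ← Category.assoc (kernel.ι D.θ), ← Category.assoc w₁, hWk, zero_comp]

end LData

/-- The bounds used in the construction. -/
structure LTame (I : Ideal A) (F : ℕᵒᵖ ⥤ X.Modules) (c : ℕ) {σ : Type u} [Fintype σ] (a : σ → A)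
    extends LData I F c a where
  m : ℕ
  cm : c ≤ m
  c₂ : ℕ
  deep : ∀ {j N : ℕ} (hj : j ≤ N) (hm : m ≤ N), j + c₂ ≤ N → ∀ {T : X.Modules} (t : T ⟶ F.obj (op N)),
      t ≫ ψ N = 0 → t ≫ ARSys.tr F hm = 0 → t ≫ ARSys.tr F hj = 0

namespace LTame

variable (L : LTame I F c a)

/-- The working level. -/
abbrev N₃ : ℕ := L.m + c

/-- The fibre product. -/
abbrev P (n : ℕ) : X.Modules :=
  kernel (biprod.fst ≫ modJπ (I ^ (n + 1)) L.G - biprod.snd ≫ L.ψ n : L.G ⊞ F.obj (op n) ⟶ _)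

def fstP (n : ℕ) : L.P n ⟶ L.G := kernel.ι _ ≫ biprod.fst

def sndP (n : ℕ) : L.P n ⟶ F.obj (op n) := kernel.ι _ ≫ biprod.snd

theorem condP (n : ℕ) : L.fstP n ≫ modJπ (I ^ (n + 1)) L.G = L.sndP n ≫ L.ψ n := by
  rw [← sub_eq_zero, fstP, sndP, Category.assoc, Category.assoc, ← Preadditive.comp_sub]
  exact kernel.condition _

def mkP {n : ℕ} {T : X.Modules} (g : T ⟶ L.G) (x : T ⟶ F.obj (op n))
    (h : g ≫ modJπ (I ^ (n + 1)) L.G = x ≫ L.ψ n) : T ⟶ L.P n :=
  kernel.lift _ (biprod.lift g x) (by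
    rw [Preadditive.comp_sub, biprod.lift_fst_assoc, biprod.lift_snd_assoc, h, sub_self])

theorem mkP_fst {n : ℕ} {T : X.Modules} (g : T ⟶ L.G) (x : T ⟶ F.obj (op n))
    (h : g ≫ modJπ (I ^ (n + 1)) L.G = x ≫ L.ψ n) : L.mkP g x h ≫ L.fstP n = g := by
  rw [fstP, mkP, kernel.lift_ι_assoc, biprod.lift_fst]

theorem mkP_snd {n : ℕ} {T : X.Modules} (g : T ⟶ L.G) (x : T ⟶ F.obj (op n))
    (h : g ≫ modJπ (I ^ (n + 1)) L.G = x ≫ L.ψ n) : L.mkP g x h ≫ L.sndP n = x := by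
  rw [sndP, mkP, kernel.lift_ι_assoc, biprod.lift_snd]

theorem P_ext {n : ℕ} {T : X.Modules} {p p' : T ⟶ L.P n} (h₁ : p ≫ L.fstP n = p' ≫ L.fstP n)
    (h₂ : p ≫ L.sndP n = p' ≫ L.sndP n) : p = p' := by
  refine (cancel_mono (kernel.ι _)).1 (biprod.hom_ext _ _ ?_ ?_)
  · simpa only [fstP, Category.assoc] using h₁
  · simpa only [sndP, Category.assoc] using h₂

def trP {j n : ℕ} (h : j ≤ n) : L.P n ⟶ L.P j :=
  L.mkP (L.fstP n) (L.sndP n ≫ ARSys.tr F h) (by
    rw [Category.assoc, ← L.compat h, ← Category.assoc (L.sndP n), ← L.condP, Category.assoc, π_descJ])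

theorem trP_fst {j n : ℕ} (h : j ≤ n) : L.trP h ≫ L.fstP j = L.fstP n := by rw [trP, mkP_fst]

theorem trP_snd {j n : ℕ} (h : j ≤ n) : L.trP h ≫ L.sndP j = L.sndP n ≫ ARSys.tr F h := by
  rw [trP, mkP_snd]

theorem trP_trP {j k n : ℕ} (h : j ≤ k) (h' : k ≤ n) : L.trP h' ≫ L.trP h = L.trP (h.trans h') := by
  refine L.P_ext ?_ ?_
  · rw [Category.assoc, trP_fst, trP_fst, trP_fst]
  · rw [Category.assoc, trP_snd, ← Category.assoc, trP_snd, trP_snd, Category.assoc, Algz7.tr_trans]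

def pm {n : ℕ} (h : L.m ≤ n) : L.P n ⟶ L.G ⊞ F.obj (op L.m) :=
  biprod.lift (L.fstP n) (L.sndP n ≫ ARSys.tr F h)

theorem pm_fst {n : ℕ} (h : L.m ≤ n) : L.pm h ≫ biprod.fst = L.fstP n := biprod.lift_fst _ _

theorem pm_snd {n : ℕ} (h : L.m ≤ n) : L.pm h ≫ biprod.snd = L.sndP n ≫ ARSys.tr F h :=
  biprod.lift_snd _ _

theorem trP_pm {j n : ℕ} (h : j ≤ n) (h' : L.m ≤ j) : L.trP h ≫ L.pm h' = L.pm (h'.trans h) := by
  refine biprod.hom_ext _ _ ?_ ?_
  · rw [Category.assoc, pm_fst, pm_fst, trP_fst]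
  · rw [Category.assoc, pm_snd, pm_snd, ← Category.assoc, trP_snd, Category.assoc, Algz7.tr_trans]

theorem m_le : L.m ≤ L.N₃ := Nat.le_add_right _ _

abbrev M : X.Modules := Abelian.image (L.pm L.m_le)

abbrev ιM : L.M ⟶ L.G ⊞ F.obj (op L.m) := Abelian.image.ι _

def q {n : ℕ} (h : L.N₃ ≤ n) : L.P n ⟶ L.M := L.trP h ≫ Abelian.factorThruImage (L.pm L.m_le)

theorem q_ι {n : ℕ} (h : L.N₃ ≤ n) : L.q h ≫ L.ιM = L.pm (L.m_le.trans h) := by
  rw [q, Category.assoc, Abelian.image.fac, trP_pm]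

theorem trP_q {j n : ℕ} (h : j ≤ n) (h' : L.N₃ ≤ j) : L.trP h ≫ L.q h' = L.q (h'.trans h) := by
  rw [q, q, ← Category.assoc, trP_trP]

theorem epi_q {n : ℕ} (h : L.N₃ ≤ n) : Epi (L.q h) := by
  obtain ⟨T₁, π₁, hπ₁, x₂, hx₂⟩ := refine_image (L.ψ n) (L.fstP L.N₃ ≫ modJπ (I ^ (n + 1)) L.G)
    (L.π_cok _ (L.χ_eq_zero (Nat.le_add_left c L.m) (L.condP _)) n)
  haveI := hπ₁
  let d := π₁ ≫ L.sndP L.N₃ - x₂ ≫ ARSys.tr F h
  have hd : d ≫ L.ψ L.N₃ = 0 := by
    rw [Preadditive.sub_comp, Category.assoc, Category.assoc, ← L.condP, ← L.compat h, ← Category.assoc x₂,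
      ← hx₂, Category.assoc, Category.assoc, π_descJ, sub_self]
  haveI := Algz7.epi_tr L.hF h
  obtain ⟨T₂, π₂, hπ₂, z₀, hz₀⟩ := surjective_up_to_refinements_of_epi (ARSys.tr F h) d
  haveI := hπ₂
  have hmn : L.m ≤ n := L.m_le.trans h
  let e := kernel.ι (ARSys.tr F hmn) ≫ L.ψ n
  have hQ : I ^ (L.N₃ + 1) ≤ killIdeal (cokernel e) := by
    rw [show L.N₃ + 1 = (L.m + 1) + c by show L.m + c + 1 = _; omega, pow_add]
    refine Ideal.mul_le.2 fun b' hb' b hb => ?_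
    show Formal.smulMod A (cokernel e) (b' * b) = 0
    obtain ⟨T₀, π₀, hπ₀, x, hx⟩ := refine_image (L.ψ n) (Formal.smulMod A _ b) (by
      rw [smulMod_naturality, mem_killIdeal.1 (L.hcok n hb), comp_zero])
    haveI := hπ₀
    have hb0 : (x ≫ Formal.smulMod A _ b') ≫ ARSys.tr F hmn = 0 := by
      rw [Category.assoc, smulMod_naturality, mem_killIdeal.1 (L.killF le_rfl hb'), comp_zero, comp_zero]
    rw [← cancel_epi (cokernel.π e), ← smulMod_naturality, comp_zero, smulMod_mul, ← cancel_epi π₀,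
      comp_zero, ← Category.assoc, ← Category.assoc, hx, Category.assoc x, ← smulMod_naturality,
      ← Category.assoc x, ← kernel.lift_ι _ _ hb0, Category.assoc, Category.assoc]
    exact (congrArg (kernel.lift _ _ hb0 ≫ ·)
      ((Category.assoc _ _ _).symm.trans (cokernel.condition e))).trans comp_zero
  have he : (z₀ ≫ L.ψ n) ≫ cokernel.π e = 0 := by
    have hfac : cokernel.π e = trJ (Ideal.pow_le_pow_right (Nat.succ_le_succ h)) L.G ≫
        descJ (J := I ^ (L.N₃ + 1)) (modJπ (I ^ (n + 1)) L.G ≫ cokernel.π e) hQ := by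
      rw [← cancel_epi (modJπ (I ^ (n + 1)) L.G), π_descJ_assoc, π_descJ]
    rw [hfac, ← Category.assoc, Category.assoc z₀, L.compat h, ← Category.assoc z₀, ← hz₀, Category.assoc π₂,
      hd, comp_zero, zero_comp]
  obtain ⟨T₃, π₃, hπ₃, w, hw⟩ := refine_image e (z₀ ≫ L.ψ n) he
  haveI := hπ₃
  let x := π₃ ≫ π₂ ≫ x₂ + (π₃ ≫ z₀ - w ≫ kernel.ι (ARSys.tr F hmn))
  let p := L.mkP (π₃ ≫ π₂ ≫ π₁ ≫ L.fstP L.N₃) x (by
    rw [Preadditive.add_comp, Preadditive.sub_comp, Category.assoc π₃ z₀, hw, Category.assoc w, sub_self,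
      add_zero, Category.assoc, Category.assoc, Category.assoc, Category.assoc, Category.assoc, hx₂])
  have hp : p ≫ L.q h = π₃ ≫ π₂ ≫ π₁ ≫ Abelian.factorThruImage (L.pm L.m_le) := by
    rw [← cancel_mono L.ιM, Category.assoc, q_ι, Category.assoc, Category.assoc, Category.assoc,
      Abelian.image.fac]
    refine biprod.hom_ext _ _ ?_ ?_
    · simp only [Category.assoc, pm_fst]
      rw [mkP_fst]
    · simp only [Category.assoc, pm_snd]
      rw [← Category.assoc, mkP_snd, Preadditive.add_comp, Preadditive.sub_comp, Category.assoc w,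
        kernel.condition, comp_zero, sub_zero, ← Algz7.tr_trans F L.m_le h, Category.assoc π₃ z₀,
        ← Category.assoc z₀, ← hz₀]
      simp only [d, Category.assoc, Preadditive.comp_sub, Preadditive.sub_comp, add_sub_cancel]
  refine Preadditive.epi_of_cancel_zero _ fun u hu => ?_
  rw [← cancel_epi (Abelian.factorThruImage (L.pm L.m_le)), ← cancel_epi π₁, ← cancel_epi π₂, ← cancel_epi π₃,
    comp_zero, comp_zero, comp_zero, comp_zero]
  have := congrArg (p ≫ ·) hu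
  simpa only [← Category.assoc, hp, comp_zero] using this

/-- The level at which `r j` is defined. -/
abbrev lev (j : ℕ) : ℕ := max L.N₃ (j + L.c₂)

theorem le_lev (j : ℕ) : j ≤ L.lev j := (Nat.le_add_right j L.c₂).trans (le_max_right _ _)

theorem r_aux (j : ℕ) : kernel.ι (L.q (le_max_left L.N₃ (j + L.c₂))) ≫
    L.sndP (L.lev j) ≫ ARSys.tr F (L.le_lev j) = 0 := by
  let k := kernel.ι (L.q (le_max_left L.N₃ (j + L.c₂)))
  have h : k ≫ L.pm (L.m_le.trans (le_max_left L.N₃ (j + L.c₂))) = 0 := by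
    rw [← L.q_ι (le_max_left L.N₃ (j + L.c₂)), ← Category.assoc, kernel.condition, zero_comp]
  have h1 := congrArg (· ≫ biprod.fst) h
  have h2 := congrArg (· ≫ biprod.snd) h
  simp only [Category.assoc, pm_fst, pm_snd, zero_comp] at h1 h2
  rw [← Category.assoc]
  refine L.deep (L.le_lev j) (L.m_le.trans (le_max_left _ _)) (le_max_right _ _) _ ?_ ?_
  · rw [Category.assoc, ← L.condP, ← Category.assoc, h1, zero_comp]
  · rw [Category.assoc]; exact h2

/-- The maps to the formal module. -/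
def r (j : ℕ) : L.M ⟶ F.obj (op j) :=
  haveI := L.epi_q (le_max_left L.N₃ (j + L.c₂))
  Abelian.epiDesc (L.q (le_max_left L.N₃ (j + L.c₂))) _ (L.r_aux j)

theorem q_r {j n : ℕ} (h : L.lev j ≤ n) :
    L.q ((le_max_left _ _).trans h) ≫ L.r j = L.sndP n ≫ ARSys.tr F ((L.le_lev j).trans h) := by
  haveI := L.epi_q (le_max_left L.N₃ (j + L.c₂))
  rw [← trP_q L h (le_max_left _ _), Category.assoc]
  refine (congrArg (L.trP h ≫ ·) (Abelian.comp_epiDesc _ _ _)).trans ?_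
  rw [← Category.assoc, trP_snd, Category.assoc, Algz7.tr_trans]

theorem r_tr {j k : ℕ} (h : j ≤ k) : L.r k ≫ ARSys.tr F h = L.r j := by
  haveI := L.epi_q ((le_max_left L.N₃ _).trans (le_max_left (L.lev k) (L.lev j)))
  rw [← cancel_epi (L.q ((le_max_left L.N₃ _).trans (le_max_left (L.lev k) (L.lev j)))),
    ← Category.assoc, q_r L (le_max_left (L.lev k) (L.lev j)), q_r L (le_max_right (L.lev k) (L.lev j)),
    Category.assoc, Algz7.tr_trans]

theorem epi_r (j : ℕ) : Epi (L.r j) := by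
  haveI := Algz7.epi_tr L.hF (L.le_lev j)
  obtain ⟨T₁, π₁, hπ₁, g, hg⟩ := surjective_up_to_refinements_of_epi
    (modJπ (I ^ (L.lev j + 1)) L.G) (L.ψ (L.lev j))
  haveI := hπ₁
  have hp : (L.mkP g π₁ hg.symm ≫ L.q (le_max_left _ _)) ≫ L.r j = π₁ ≫ ARSys.tr F (L.le_lev j) := by
    rw [Category.assoc, q_r L (le_refl (L.lev j)), ← Category.assoc, mkP_snd]
  haveI : Epi ((L.mkP g π₁ hg.symm ≫ L.q (le_max_left _ _)) ≫ L.r j) := by rw [hp]; infer_instance
  exact epi_of_epi (L.mkP g π₁ hg.symm ≫ L.q (le_max_left _ _)) _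

/-- The map to `G`. -/
def a₀ : L.M ⟶ L.G := L.ιM ≫ biprod.fst

theorem q_a₀ {n : ℕ} (h : L.N₃ ≤ n) : L.q h ≫ L.a₀ = L.fstP n := by
  rw [a₀, ← Category.assoc, q_ι, pm_fst]

theorem a₀_χ : L.a₀ ≫ L.χ = 0 := by
  haveI := L.epi_q (le_refl L.N₃)
  rw [← cancel_epi (L.q (le_refl L.N₃)), comp_zero, ← Category.assoc, q_a₀]
  exact L.χ_eq_zero (Nat.le_add_left c L.m) (L.condP _)

theorem r_ψ (n : ℕ) : L.r n ≫ L.ψ n = L.a₀ ≫ modJπ (I ^ (n + 1)) L.G := by
  haveI := L.epi_q ((le_max_left L.N₃ _).trans (le_refl (L.lev n)))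
  rw [← cancel_epi (L.q ((le_max_left L.N₃ _).trans (le_refl (L.lev n)))), ← Category.assoc, q_r L (le_refl _),
    ← Category.assoc, q_a₀, Category.assoc, ← L.compat, ← Category.assoc, ← L.condP, Category.assoc, π_descJ]

theorem exists_preimage {T : X.Modules} (g : T ⟶ L.G) (hg : g ≫ L.χ = 0) :
    ∃ (T' : X.Modules) (π : T' ⟶ T) (_ : Epi π) (u : T' ⟶ L.M), π ≫ g = u ≫ L.a₀ := by
  obtain ⟨T', π, hπ, x, hx⟩ := refine_image (L.ψ L.N₃) (g ≫ modJπ _ L.G) (L.π_cok g hg L.N₃)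
  refine ⟨T', π, hπ, L.mkP (π ≫ g) x (by rw [Category.assoc]; exact hx) ≫ L.q (le_refl _), ?_⟩
  rw [Category.assoc, q_a₀, mkP_fst]

theorem isCoh_M [IsNoetherian X] : Coh.IsCoh L.M := by
  have hP : Coh.IsCoh (L.P L.N₃) := QCoh.isCoh_kernel (isCoh_biprod L.isCoh (L.hF.1 _))
    (isCoh_modJ _ L.isCoh) _
  exact QCoh.isCoh_kernel (isCoh_biprod L.isCoh (L.hF.1 _))
    (QCoh.isCoh_cokernel hP.1 (isCoh_biprod L.isCoh (L.hF.1 _)) _) _

theorem le_killIdeal_ker : I ^ c ≤ killIdeal (kernel L.a₀) := fun b hb => by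
  haveI := L.epi_q (le_refl L.N₃)
  obtain ⟨T₁, π₁, hπ₁, p, hp⟩ := surjective_up_to_refinements_of_epi (L.q (le_refl L.N₃)) (kernel.ι L.a₀)
  haveI := hπ₁
  have hp0 : p ≫ L.fstP L.N₃ = 0 := by
    rw [← L.q_a₀ (le_refl L.N₃), ← Category.assoc, ← hp, Category.assoc, kernel.condition, comp_zero]
  have h0 : p ≫ Formal.smulMod A _ b = 0 := by
    refine L.P_ext ?_ ?_
    · rw [zero_comp, Category.assoc, smulMod_naturality, ← Category.assoc, hp0, zero_comp]
    · rw [zero_comp, Category.assoc, smulMod_naturality, ← Category.assoc]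
      refine L.hker _ _ ?_ b hb
      rw [Category.assoc, ← L.condP, ← Category.assoc, hp0, zero_comp]
  rw [mem_killIdeal, ← cancel_mono (kernel.ι L.a₀), zero_comp, smulMod_naturality, ← cancel_epi π₁, comp_zero,
    ← Category.assoc, hp, Category.assoc, ← smulMod_naturality, ← Category.assoc, h0, zero_comp]

theorem le_killIdeal_coker [IsNoetherian X] : I ^ c ≤ killIdeal (cokernel L.a₀) :=
  L.gen _ (QCoh.isQCoh_cokernel L.isCoh_M.1 L.isCoh.1 _) fun i => by
    have hχ : Formal.smulMod A L.G (a i) ≫ L.χ = 0 := by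
      rw [smulMod_naturality, mem_killIdeal.1 (L.hcok c (L.mem i)), comp_zero]
    obtain ⟨T', π, hπ, u, hu⟩ := L.exists_preimage _ hχ
    haveI := hπ
    rw [← cancel_epi (cokernel.π L.a₀), comp_zero, ← smulMod_naturality, ← cancel_epi π, comp_zero,
      ← Category.assoc, hu, Category.assoc, cokernel.condition, comp_zero]

theorem exists_kernel_r_deep [IsNoetherian X] (j : ℕ) : ∃ n, j ≤ n ∧
    kernel.ι (L.r n) ≫ modJπ (I ^ (j + 1)) L.M = 0 := by
  obtain ⟨c₃, hc₃⟩ := artinRees I L.isCoh_G' L.isCoh L.κ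
  let L' := max (j + 1) (L.m + 1)
  let n := c₃ + L'
  have hjn : j ≤ n := by
    have : j + 1 ≤ L' := le_max_left _ _
    show j ≤ c₃ + L'
    omega
  have hmn : L.m ≤ n := by
    have : L.m + 1 ≤ L' := le_max_right _ _
    show L.m ≤ c₃ + L'
    omega
  refine ⟨n, hjn, ?_⟩
  let t := kernel.ι (L.r n)
  have htg : (t ≫ L.a₀) ≫ modJπ (I ^ (n + 1)) L.G = 0 := by
    rw [Category.assoc, ← L.r_ψ n, ← Category.assoc, kernel.condition, zero_comp]
  obtain ⟨T₁, π₁, hπ₁, g₀, g₁, he, h0, h1⟩ := hc₃ (n + 1) (by show c₃ ≤ c₃ + L' + 1; omega)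
    (kernel.lift L.χ (t ≫ L.a₀) (by rw [Category.assoc, a₀_χ, comp_zero]))
    (by rw [kernel.lift_ι_assoc]; exact htg)
  haveI := hπ₁
  rw [show g₀ = 0 by rwa [← cancel_mono L.κ, zero_comp], zero_add] at he
  let e : L.M ⟶ L.G' := kernel.lift L.χ L.a₀ L.a₀_χ
  haveI : Epi e := by
    obtain ⟨T', π, hπ, u, hu⟩ := L.exists_preimage L.κ (kernel.condition _)
    haveI := hπ
    refine Preadditive.epi_of_cancel_zero _ fun {Z} v hv => ?_
    rw [← cancel_epi π, comp_zero, show π = u ≫ e by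
      rw [← cancel_mono L.κ, Category.assoc, kernel.lift_ι]; exact hu, Category.assoc, hv, comp_zero]
  let e' := kernel.ι (modJπ (I ^ L') L.M) ≫ e
  have hQ : I ^ L' ≤ killIdeal (cokernel e') := fun b hb => by
    have hb0 : Formal.smulMod A L.M b ≫ modJπ (I ^ L') L.M = 0 := by
      rw [smulMod_naturality, mem_killIdeal.1 (le_killIdeal_modJ _ _ hb), comp_zero]
    rw [mem_killIdeal, ← cancel_epi (cokernel.π e'), ← cancel_epi e, comp_zero, comp_zero,
      ← smulMod_naturality, ← Category.assoc e, ← smulMod_naturality, Category.assoc,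
      ← kernel.lift_ι _ _ hb0, Category.assoc]
    exact (congrArg (kernel.lift _ _ hb0 ≫ ·)
      ((Category.assoc _ _ _).symm.trans (cokernel.condition e'))).trans comp_zero
  obtain ⟨T₂, π₂, hπ₂, u', hu'⟩ := refine_image e' g₁
    (comp_eq_zero_of_killed _ hQ (modJπ_le (Ideal.pow_le_pow_right (show L' ≤ n + 1 - c₃ by
      show L' ≤ c₃ + L' + 1 - c₃; omega)) h1))
  haveI := hπ₂
  let u := u' ≫ kernel.ι (modJπ (I ^ L') L.M)
  have hu : u ≫ modJπ (I ^ L') L.M = 0 := by rw [Category.assoc, kernel.condition, comp_zero]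
  have key : π₂ ≫ π₁ ≫ t = u := by
    rw [← cancel_mono L.ιM]
    refine biprod.hom_ext _ _ ?_ ?_
    · show ((π₂ ≫ π₁ ≫ t) ≫ L.ιM) ≫ biprod.fst = (u ≫ L.ιM) ≫ biprod.fst
      rw [Category.assoc, Category.assoc u]
      show (π₂ ≫ π₁ ≫ t) ≫ L.a₀ = u ≫ L.a₀
      rw [Category.assoc, Category.assoc, ← kernel.lift_ι L.χ (t ≫ L.a₀)
          (by rw [Category.assoc, a₀_χ, comp_zero]), ← Category.assoc π₁, he, ← Category.assoc, hu']
      simp only [u, e', e, Category.assoc, kernel.lift_ι]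
    · have hsnd : L.ιM ≫ biprod.snd = L.r L.m := by
        haveI := L.epi_q ((le_max_left L.N₃ _).trans (le_refl (L.lev L.m)))
        rw [← cancel_epi (L.q ((le_max_left L.N₃ _).trans (le_refl (L.lev L.m)))), ← Category.assoc, q_ι, pm_snd,
          q_r L (le_refl _)]
      rw [Category.assoc _ L.ιM, Category.assoc _ L.ιM, hsnd,
        comp_eq_zero_of_killed (L.r L.m) (L.killF (show L.m + 1 ≤ L' from le_max_right _ _)) hu,
        ← L.r_tr hmn, Category.assoc π₂, Category.assoc π₁, ← Category.assoc t, kernel.condition, zero_comp,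
        comp_zero, comp_zero]
  rw [← cancel_epi π₁, ← cancel_epi π₂, comp_zero, comp_zero, ← Category.assoc π₁, ← Category.assoc π₂, key]
  exact modJπ_le (Ideal.pow_le_pow_right (le_max_left _ _)) hu

theorem isIso_descJ_r [IsNoetherian X] (j : ℕ) :
    IsIso (descJ (J := I ^ (j + 1)) (L.r j) (L.killF le_rfl)) := by
  obtain ⟨n, hjn, hn⟩ := L.exists_kernel_r_deep j
  haveI := L.epi_r n
  haveI := L.epi_r j
  obtain ⟨ρ, hρ⟩ := Algz7.factor L.hF hjn
    (fun b hb => le_killIdeal_modJ (I ^ (j + 1)) L.M hb) (Abelian.epiDesc (L.r n) _ hn)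
  have h1 : L.r j ≫ ρ = modJπ (I ^ (j + 1)) L.M := by
    rw [← L.r_tr hjn, Category.assoc, hρ]
    exact Abelian.comp_epiDesc _ _ _
  refine ⟨ρ, ?_, ?_⟩
  · rw [← cancel_epi (modJπ (I ^ (j + 1)) L.M), π_descJ_assoc, h1, Category.comp_id]
  · rw [← cancel_epi (L.r j), ← Category.assoc, h1, π_descJ, Category.comp_id]

end LTame

/-- Existence, for maps to a completion. -/
theorem exists_algebraization_left [IsNoetherian X] (G : X.Modules) (hG : Coh.IsCoh G)
    (hF : Formal.IsCohFormal I F) (α : F ⟶ Formal.completion I G)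
    (hα : Formal2.KerCokerKilledByIPow I α) :
    ∃ (F' : X.Modules) (a : F' ⟶ G) (β : F ≅ Formal.completion I F'), Coh.IsCoh F' ∧
      Formal2.KerCokerKilledByIPowHom I a ∧
      ∀ n : ℕ, Formal.modPowπ I (n + 1) F' ≫ β.inv.app (op n) ≫ α.app (op n) =
        a ≫ Formal.modPowπ I (n + 1) G := by
  obtain ⟨t, ht⟩ := hα
  obtain ⟨σ, _, a, ha, hgen⟩ := exists_generators (X := X) (I ^ (t + 1))
  let D : LData I F (t + 1) a :=
    { G := G, isCoh := hG, hF := hF, mem := ha, gen := hgen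
      ψ := fun n => α.app (op n)
      compat := fun {j n} h => by
        induction n, h using Nat.le_induction with
        | base =>
          rw [Algz7.tr_refl, Category.id_comp, show trJ (le_refl (I ^ (j + 1))) G = 𝟙 _ by
            rw [← cancel_epi (modJπ _ G), π_descJ, Category.comp_id]]
          exact Category.comp_id _
        | succ k h ih =>
          rw [← Algz7.tr_trans F h (Nat.le_succ k), Category.assoc, ← ih, ← Category.assoc]
          show _ = (F.map (homOfLE (Nat.le_succ k)).op ≫ α.app (op k)) ≫ _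
          rw [α.naturality, Algz7.completion_map_succ, Category.assoc]
          refine congrArg (α.app (op (k + 1)) ≫ ·) ((cancel_epi (modJπ (I ^ (k + 1 + 1)) G)).1 ?_)
          rw [π_descJ, ← Category.assoc, show modJπ (I ^ (k + 1 + 1)) G ≫ Formal.modPowTrans I (k + 1) G =
            modJπ (I ^ (k + 1)) G from Formal.modPowπ_trans I (k + 1) G, π_descJ]
      hcok := fun n b hb => (ht n).2 b hb
      hker := fun n T s hs b hb => by
        rw [← kernel.lift_ι _ _ hs, Category.assoc, ← smulMod_naturality, (ht n).1 b hb, zero_comp, comp_zero] }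
  obtain ⟨m, c₂, hcm, hdeep⟩ := D.exists_deep
  let L : LTame I F (t + 1) a := { toLData := D, m := m, cm := hcm, c₂ := c₂, deep := hdeep }
  let b₀ : ∀ n, (Formal.completion I L.M).obj (op n) ⟶ F.obj (op n) := fun n =>
    descJ (J := I ^ (n + 1)) (L.r n) (L.killF le_rfl)
  let β₀ : Formal.completion I L.M ⟶ F := NatTrans.ofOpSequence b₀ fun n => by
    rw [Algz7.completion_map_succ]
    refine (cancel_epi (modJπ (I ^ (n + 1 + 1)) L.M)).1 ?_
    show modJπ (I ^ (n + 1 + 1)) L.M ≫ Formal.modPowTrans I (n + 1) L.M ≫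
        descJ (J := I ^ (n + 1)) (L.r n) (L.killF le_rfl) =
      modJπ (I ^ (n + 1 + 1)) L.M ≫ descJ (J := I ^ (n + 1 + 1)) (L.r (n + 1)) (L.killF le_rfl) ≫ _
    rw [← Category.assoc, show modJπ (I ^ (n + 1 + 1)) L.M ≫ Formal.modPowTrans I (n + 1) L.M =
      modJπ (I ^ (n + 1)) L.M from Formal.modPowπ_trans I (n + 1) L.M, π_descJ, π_descJ_assoc]
    exact (L.r_tr (Nat.le_succ n)).symm
  haveI : ∀ n : ℕᵒᵖ, IsIso (β₀.app n) := fun n => L.isIso_descJ_r n.unop
  haveI : IsIso β₀ := NatIso.isIso_of_isIso_app _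
  refine ⟨L.M, L.a₀, (asIso β₀).symm, L.isCoh_M,
    ⟨t, fun b hb => L.le_killIdeal_ker hb, fun b hb => L.le_killIdeal_coker hb⟩, fun n => ?_⟩
  show modJπ (I ^ (n + 1)) L.M ≫ descJ (J := I ^ (n + 1)) (L.r n) (L.killF le_rfl) ≫ D.ψ n = _
  rw [π_descJ_assoc]
  exact L.r_ψ n

end Groth.Agent.ExistEasy
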