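import Groth.Agent.FFun.GoodM
import Groth.Agent.QCoh.DevissageSum
import Groth.Agent.Algz7.CohFormal

/-!
# Element-free Artin–Rees for coherent modules
-/

universe u

set_option backward.isDefEq.respectTransparency false
set_option backward.isDefEq.respectTransparency.types false

open CategoryTheory CategoryTheory.Limits AlgebraicGeometry TopologicalSpace Opposite

noncomputable section

namespace Groth.Agent.ExistEasy

open Groth.Agent Groth.Agent.FFun

variable {A : Type u} [CommRing A] {X : Scheme.{u}} [X.Over (Spec (CommRingCat.of A))]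

theorem refine_image {M N T : X.Modules} (f : M ⟶ N) (t : T ⟶ N) (h : t ≫ cokernel.π f = 0) :
    ∃ (T' : X.Modules) (π : T' ⟶ T) (_ : Epi π) (s : T' ⟶ M), π ≫ t = s ≫ f :=
  (ShortComplex.exact_of_g_is_cokernel (ShortComplex.mk f (cokernel.π f) (cokernel.condition f))
    (cokernelIsCokernel f)).exact_up_to_refinements t h

theorem refine_family {σ : Type*} [Finite σ] {T : X.Modules} {M N : σ → X.Modules} (f : ∀ i, M i ⟶ N i)
    (t : ∀ i, T ⟶ N i) (h : ∀ i, t i ≫ cokernel.π (f i) = 0) :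
    ∃ (T' : X.Modules) (π : T' ⟶ T) (_ : Epi π) (s : ∀ i, T' ⟶ M i), ∀ i, π ≫ t i = s i ≫ f i := by
  classical
  cases nonempty_fintype σ
  suffices H : ∀ S : Finset σ, ∃ (T' : X.Modules) (π : T' ⟶ T) (_ : Epi π), ∀ i ∈ S,
      ∃ s : T' ⟶ M i, π ≫ t i = s ≫ f i by
    obtain ⟨T', π, hπ, hs⟩ := H Finset.univ
    choose s hs using fun i => hs i (Finset.mem_univ i)
    exact ⟨T', π, hπ, s, hs⟩
  intro S
  induction S using Finset.induction with
  | empty => exact ⟨T, 𝟙 T, inferInstance, fun i hi => absurd hi (Finset.notMem_empty i)⟩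
  | insert j S _ ih =>
    obtain ⟨T', π, hπ, hs⟩ := ih
    obtain ⟨T'', π', hπ', s, hs'⟩ := refine_image (f j) (π ≫ t j) (by rw [Category.assoc, h, comp_zero])
    haveI := hπ; haveI := hπ'
    refine ⟨T'', π' ≫ π, epi_comp _ _, fun i hi => ?_⟩
    rcases Finset.mem_insert.1 hi with rfl | hi
    · exact ⟨s, (Category.assoc _ _ _).trans hs'⟩
    · obtain ⟨s₀, hs₀⟩ := hs i hi
      exact ⟨π' ≫ s₀, by rw [Category.assoc, hs₀, Category.assoc]⟩

theorem modJπ_natural {J : Ideal A} {M N T : X.Modules} (f : M ⟶ N) {t : T ⟶ M}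
    (h : t ≫ modJπ J M = 0) : (t ≫ f) ≫ modJπ J N = 0 := by
  rw [Category.assoc, ← π_descJ (f ≫ modJπ J N) (le_killIdeal_modJ J N), ← Category.assoc t, h, zero_comp]

theorem comp_eq_zero_of_killed {J : Ideal A} {M N T : X.Modules} (f : M ⟶ N) (hJ : J ≤ killIdeal N)
    {t : T ⟶ M} (h : t ≫ modJπ J M = 0) : t ≫ f = 0 := by
  rw [← π_descJ f hJ, ← Category.assoc, h, zero_comp]

theorem modJπ_le {J J' : Ideal A} (hle : J' ≤ J) {M T : X.Modules} {t : T ⟶ M}
    (h : t ≫ modJπ J' M = 0) : t ≫ modJπ J M = 0 :=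
  comp_eq_zero_of_killed _ (hle.trans (le_killIdeal_modJ J M)) h

/-- Artin–Rees: the preimage of `Iᴷ N` lies in `ker φ + Iᴷ⁻ᶜ M`. -/
theorem artinRees [IsNoetherian X] (I : Ideal A) {M N : X.Modules} (hM : Coh.IsCoh M) (hN : Coh.IsCoh N)
    (φ : M ⟶ N) :
    ∃ c : ℕ, ∀ K, c ≤ K → ∀ {T : X.Modules} (t : T ⟶ M), t ≫ φ ≫ modJπ (I ^ K) N = 0 →
      ∃ (T' : X.Modules) (π : T' ⟶ T) (_ : Epi π) (t₀ t₁ : T' ⟶ M),
        π ≫ t = t₀ + t₁ ∧ t₀ ≫ φ = 0 ∧ t₁ ≫ modJπ (I ^ (K - c)) M = 0 := by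
  classical
  obtain ⟨s, hs, hcov⟩ := isCompact_iff_finite_and_eq_biUnion_affineOpens.mp
    (show IsCompact ((⊤ : X.Opens) : Set X) by simpa using isCompact_univ)
  haveI := hs.to_subtype
  haveI := Fintype.ofFinite s
  have hcov' : ∀ x : X, ∃ i : s, x ∈ i.1.1 := fun x => by
    have hx : x ∈ (⊤ : X.Opens) := trivial
    rw [hcov] at hx
    obtain ⟨V, hV, hxV⟩ := by simpa only [Opens.mem_iSup, exists_prop] using hx
    exact ⟨⟨V, hV⟩, hxV⟩
  haveI : ∀ i : s, IsNoetherianRing Γ(X, i.1.1) := fun i => QCoh.noetherian_sections (X := X) i.1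
  haveI : ∀ i : s, Module.Finite Γ(X, i.1.1) Γ(N, i.1.1) := fun i => QCoh.finite_sections hN i.1.2
  let lin : ∀ i : s, Γ(M, i.1.1) →ₗ[Γ(X, i.1.1)] Γ(N, i.1.1) := fun i =>
    { toFun := φ.app i.1.1, map_add' := map_add _, map_smul' := fun r m => φ.app_smul r m }
  have hc : ∀ i : s, ∃ c : ℕ, ∀ K, c ≤ K → ∀ m, lin i m ∈ (I.map (φsec i.1.1)) ^ K • (⊤ : Submodule _ Γ(N, i.1.1)) →
      ∃ m' ∈ (I.map (φsec i.1.1)) ^ (K - c) • (⊤ : Submodule _ Γ(M, i.1.1)), lin i (m - m') = 0 := fun i => by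
    obtain ⟨c, hc⟩ := Ideal.exists_pow_inf_eq_pow_smul (I.map (φsec i.1.1)) (LinearMap.range (lin i))
    refine ⟨c, fun K hK m hm => ?_⟩
    have h1 : lin i m ∈ _ ⊓ LinearMap.range (lin i) := ⟨hm, LinearMap.mem_range_self _ m⟩
    rw [hc K hK] at h1
    have h2 : lin i m ∈ (I.map (φsec i.1.1)) ^ (K - c) • LinearMap.range (lin i) :=
      Submodule.smul_mono le_rfl inf_le_right h1
    rw [← Submodule.map_top (lin i), ← Submodule.map_smul''] at h2
    obtain ⟨m', hm', hmm⟩ := h2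
    exact ⟨m', hm', by rw [map_sub]; exact sub_eq_zero.2 hmm.symm⟩
  choose c hc using hc
  refine ⟨Finset.univ.sup c, fun K hK T t ht => ?_⟩
  let K' := K - Finset.univ.sup c
  let S := kernel.ι (φ ≫ modJπ (I ^ K) N)
  have hq : ∀ (L : X.Modules), Coh.IsCoh L → ∀ m : ℕ, Coh.IsQCoh (modJ (I ^ m) L) :=
    fun L hL m => (isCoh_modJ _ hL).1
  -- the image of the kernel of `φ` in `M / I^K' M`
  let g := kernel.ι φ ≫ modJπ (I ^ K') M
  have hS : S ≫ modJπ (I ^ K') M ≫ cokernel.π g = 0 := by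
    refine hom_eq_zero_of_cover (QCoh.isQCoh_kernel hM.1 (hq N hN K) _)
      (QCoh.isQCoh_cokernel (QCoh.isQCoh_kernel hM.1 hN.1 _) (hq M hM K') _) _ (fun i : s => i.1.1)
      (fun i => i.1.2) hcov' fun i y => ?_
    obtain ⟨m, hm⟩ : ∃ m, S.app i.1.1 y = m := ⟨_, rfl⟩
    have h0 : (modJπ (I ^ K) N).app i.1.1 (lin i m) = 0 := by
      rw [← hm]
      exact congr(($(kernel.condition (φ ≫ modJπ (I ^ K) N))).app i.1.1 y)
    have h1 := mem_of_π_app_eq_zero hN.1 _ i.1.2 h0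
    rw [Ideal.map_pow] at h1
    have hci : c i ≤ Finset.univ.sup c := Finset.le_sup (Finset.mem_univ i)
    obtain ⟨m', hm', hmm⟩ := hc i K (hci.trans hK) m h1
    obtain ⟨w, hw⟩ : ∃ w, (kernel.ι φ).app i.1.1 w = m - m' := by
      have hS : (ShortComplex.mk (kernel.ι φ) (Abelian.coimage.π φ) (cokernel.condition _)).ShortExact :=
        { exact := ShortComplex.exact_of_g_is_cokernel _ (cokernelIsCokernel _) }
      refine QCoh.exists_app_f_eq hS i.1.1 _ (QCoh.app_injective (Abelian.factorThruCoimage φ) i.1.1 ?_)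
      rw [map_zero]
      exact (congr(($(Abelian.coimage.fac φ)).app i.1.1 (m - m'))).trans hmm
    show (cokernel.π g).app i.1.1 ((modJπ (I ^ K') M).app i.1.1 (S.app i.1.1 y)) = 0
    rw [hm, ← sub_add_cancel m m', map_add, map_add, ← hw]
    refine (congrArg₂ (· + ·) (congr(($(cokernel.condition g)).app i.1.1 w)) ?_).trans (add_zero _)
    refine (congrArg ((cokernel.π g).app i.1.1) (π_app_eq_zero M _ _ ?_)).trans (map_zero _)
    rw [Ideal.map_pow]
    exact Submodule.smul_mono_left (Ideal.pow_le_pow_right (by show K - _ ≤ _; omega)) hm'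
  obtain ⟨T', π, hπ, w, hw⟩ := refine_image g (t ≫ modJπ (I ^ K') M) (by
    rw [← kernel.lift_ι (φ ≫ modJπ (I ^ K) N) t ht, Category.assoc, Category.assoc]
    exact (congrArg (kernel.lift _ t ht ≫ ·) hS).trans comp_zero)
  refine ⟨T', π, hπ, w ≫ kernel.ι φ, π ≫ t - w ≫ kernel.ι φ, (add_sub_cancel _ _).symm, ?_, ?_⟩
  · rw [Category.assoc, kernel.condition, comp_zero]
  · rw [Preadditive.sub_comp, Category.assoc, Category.assoc, hw, sub_self]

/-- The base ideal is finitely generated as far as modules on `X` can see. -/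
theorem exists_generators [IsNoetherian X] (I : Ideal A) :
    ∃ (σ : Type u) (_ : Fintype σ) (a : σ → A), (∀ i, a i ∈ I) ∧
      ∀ M : X.Modules, Coh.IsQCoh M → (∀ i, Formal.smulMod A M (a i) = 0) → I ≤ killIdeal M := by
  classical
  obtain ⟨s, hs, hcov⟩ := isCompact_iff_finite_and_eq_biUnion_affineOpens.mp
    (show IsCompact ((⊤ : X.Opens) : Set X) by simpa using isCompact_univ)
  haveI := hs.to_subtype
  haveI := Fintype.ofFinite s
  have hcov' : ∀ x : X, ∃ i : s, x ∈ i.1.1 := fun x => by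
    have hx : x ∈ (⊤ : X.Opens) := trivial
    rw [hcov] at hx
    obtain ⟨V, hV, hxV⟩ := by simpa only [Opens.mem_iSup, exists_prop] using hx
    exact ⟨⟨V, hV⟩, hxV⟩
  have hS : ∀ i : s, ∃ S : Finset A, (S : Set A) ⊆ I ∧
      (Ideal.span (S : Set A)).map (φsec i.1.1) = I.map (φsec i.1.1) := fun i => by
    haveI := QCoh.noetherian_sections (X := X) i.1
    obtain ⟨s', hs', hspan⟩ := Submodule.fg_span_iff_fg_span_finset_subset ((φsec i.1.1 : A →+* Γ(X, i.1.1)) '' I)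
      |>.1 (IsNoetherian.noetherian (Ideal.span ((φsec i.1.1 : A →+* Γ(X, i.1.1)) '' I)))
    obtain ⟨S, hSI, hSeq⟩ := Finset.subset_set_image_iff.1 hs'
    refine ⟨S, hSI, ?_⟩
    rw [Ideal.map_span, Ideal.map, ← Finset.coe_image, hSeq]
    exact hspan.symm
  choose S hSI hSeq using hS
  let U : Finset A := Finset.univ.biUnion S
  refine ⟨ULift.{u} U, inferInstance, fun i => i.down.1, fun i => ?_, fun M hM h b hb => ?_⟩
  · obtain ⟨j, -, hj⟩ := Finset.mem_biUnion.1 i.down.2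
    exact hSI j hj
  · refine hom_eq_zero_of_cover hM hM _ (fun i : s => i.1.1) (fun i => i.1.2) hcov' fun i m => ?_
    have hb' : φsec i.1.1 b ∈ (Ideal.span (S i : Set A)).map (φsec i.1.1) :=
      (hSeq i).ge (Ideal.mem_map_of_mem _ hb)
    rw [Ideal.map_span] at hb'
    rw [smulMod_app]
    show φsec i.1.1 b • m = 0
    refine Submodule.span_induction (p := fun x _ => x • m = 0) ?_ (zero_smul _ m)
      (fun x y _ _ hx hy => by rw [add_smul, hx, hy, add_zero])
      (fun x y _ hy => by rw [smul_eq_mul, mul_smul, hy, smul_zero]) hb'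
    rintro _ ⟨e, he, rfl⟩
    exact (smulMod_app M e i.1.1 m).symm.trans
      (congr(($(h ⟨⟨e, Finset.mem_biUnion.2 ⟨i, Finset.mem_univ i, he⟩⟩⟩)).app i.1.1 m))

end Groth.Agent.ExistEasy
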