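import Groth.Agent.ExistEasy.Setup
import Groth.Prelude.Def_Formal2

/-!
# Algebraizing a formal module isomorphic to a completion up to a power of the ideal
-/

universe u

set_option backward.isDefEq.respectTransparency false
set_option backward.isDefEq.respectTransparency.types false

open CategoryTheory CategoryTheory.Limits AlgebraicGeometry TopologicalSpace Opposite

noncomputable section

namespace Groth.Agent.ExistEasy

open Groth.Agent Groth.Agent.FFun

attribute [local instance] QCoh.hasFiniteBiproducts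

variable {A : Type u} [CommRing A] {X : Scheme.{u}} [X.Over (Spec (CommRingCat.of A))]

/-- The hypothesis on generators of `Iᶜ`. -/
structure Gens (X : Scheme.{u}) [X.Over (Spec (CommRingCat.of A))] (I : Ideal A) (c : ℕ)
    {σ : Type u} [Fintype σ] (a : σ → A) : Prop where
  mem : ∀ i, a i ∈ I ^ c
  gen : ∀ M : X.Modules, Coh.IsQCoh M → (∀ i, Formal.smulMod A M (a i) = 0) → I ^ c ≤ killIdeal M

variable {I : Ideal A} {F : ℕᵒᵖ ⥤ X.Modules} {c : ℕ} {σ : Type u} [Fintype σ] {a : σ → A}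
variable (D : Data I F c a)

namespace Data

/-- The Koszul relations on tuples. -/
abbrev Φ (D : Data I F c a) : (⨁ fun _ : σ => D.G) ⟶ ⨁ fun _ : σ × σ => D.G :=
  biproduct.lift fun il => biproduct.π (fun _ : σ => D.G) il.2 ≫ Formal.smulMod A D.G (a il.1) -
    biproduct.π (fun _ : σ => D.G) il.1 ≫ Formal.smulMod A D.G (a il.2)

/-- Compatible tuples. -/
abbrev H (D : Data I F c a) : X.Modules := kernel D.Φ

/-- A component of a compatible tuple. -/
abbrev pr (i : σ) : D.H ⟶ D.G := kernel.ι D.Φ ≫ biproduct.π (fun _ : σ => D.G) i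

theorem pr_smul (i l : σ) : D.pr l ≫ Formal.smulMod A D.G (a i) = D.pr i ≫ Formal.smulMod A D.G (a l) := by
  have h := congrArg (· ≫ biproduct.π (fun _ : σ × σ => D.G) (i, l)) (kernel.condition D.Φ)
  simp only [Category.assoc, biproduct.lift_π, zero_comp, Preadditive.comp_sub, sub_eq_zero] at h
  rw [pr, pr, Category.assoc, Category.assoc]
  exact h

theorem H_ext {T : X.Modules} {y : T ⟶ D.H} (h : ∀ i, y ≫ D.pr i = 0) : y = 0 := by
  rw [← cancel_mono (kernel.ι D.Φ), zero_comp]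
  refine biproduct.hom_ext _ _ fun i => ?_
  rw [Category.assoc, zero_comp]
  exact h i

/-- The diagonal tuple. -/
abbrev δ (D : Data I F c a) : D.G ⟶ D.H :=
  kernel.lift D.Φ (D.Δ D.G) (by
    refine biproduct.hom_ext _ _ fun il => ?_
    simp only [Category.assoc, biproduct.lift_π, zero_comp, Preadditive.comp_sub, sub_eq_zero]
    rw [biproduct.lift_π_assoc, biproduct.lift_π_assoc, smulMod_comm])

theorem δ_pr (i : σ) : D.δ ≫ D.pr i = Formal.smulMod A D.G (a i) := by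
  rw [pr, kernel.lift_ι_assoc, biproduct.lift_π]

theorem pr_δ (i : σ) : D.pr i ≫ D.δ = Formal.smulMod A D.H (a i) := by
  rw [← sub_eq_zero]
  refine D.H_ext fun l => ?_
  rw [Preadditive.sub_comp, Category.assoc, δ_pr, smulMod_naturality, D.pr_smul l i, sub_self]

theorem isCoh_H [IsNoetherian X] : Coh.IsCoh D.H :=
  QCoh.isCoh_kernel (QCoh.isCoh_biproduct _ fun _ => D.isCoh) (QCoh.isCoh_biproduct _ fun _ => D.isCoh) _

theorem exists_δ_lift [IsNoetherian X] (hg : Gens X I c a) (m' : ℕ) {T : X.Modules} (y : T ⟶ D.H)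
    (hy : y ≫ modJπ (I ^ (m' + c)) D.H = 0) :
    ∃ (T' : X.Modules) (π : T' ⟶ T) (_ : Epi π) (g : T' ⟶ D.G),
      π ≫ y = g ≫ D.δ ∧ g ≫ modJπ (I ^ m') D.G = 0 := by
  let e := kernel.ι (modJπ (I ^ m') D.G) ≫ D.δ
  have hQc : Coh.IsCoh (cokernel e) :=
    QCoh.isCoh_cokernel (QCoh.isQCoh_kernel D.isCoh.1 (isCoh_modJ _ D.isCoh).1 _) D.isCoh_H e
  have hQ : I ^ (m' + c) ≤ killIdeal (cokernel e) := by
    rw [pow_add]
    refine Ideal.mul_le.2 fun b' hb' b hb => ?_
    show Formal.smulMod A (cokernel e) (b' * b) = 0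
    let f := Formal.smulMod A (cokernel e) b'
    have hW : Coh.IsQCoh (Abelian.coimage f) :=
      QCoh.isQCoh_cokernel (QCoh.isQCoh_kernel hQc.1 hQc.1 _) hQc.1 _
    have hWa : ∀ i, Formal.smulMod A (Abelian.coimage f) (a i) = 0 := fun i => by
      rw [← cancel_mono (Abelian.factorThruCoimage f), ← cancel_epi (Abelian.coimage.π f), zero_comp,
        comp_zero, ← Category.assoc, ← smulMod_naturality, Category.assoc, Abelian.coimage.fac,
        ← cancel_epi (cokernel.π e), comp_zero, ← Category.assoc, ← smulMod_naturality,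
        ← smulMod_naturality, ← Category.assoc, smulMod_comm, ← D.pr_δ i, Category.assoc, Category.assoc,
        ← Category.assoc D.δ, ← smulMod_naturality D.δ b', Category.assoc]
      have hb0 : Formal.smulMod A D.G b' ≫ modJπ (I ^ m') D.G = 0 := by
        rw [smulMod_naturality, mem_killIdeal.1 (le_killIdeal_modJ _ _ hb'), comp_zero]
      rw [← kernel.lift_ι _ _ hb0, Category.assoc]
      exact (congrArg (fun z => D.pr i ≫ kernel.lift _ _ hb0 ≫ z)
        ((Category.assoc _ _ _).symm.trans (cokernel.condition e))).trans (by rw [comp_zero, comp_zero])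
    have h0 : Formal.smulMod A (Abelian.coimage f) b = 0 := hg.gen _ hW hWa hb
    rw [smulMod_mul]
    show Formal.smulMod A _ b ≫ f = 0
    rw [← Abelian.coimage.fac f, ← Category.assoc, smulMod_naturality, h0, comp_zero, zero_comp]
  obtain ⟨T', π, hπ, s, hs⟩ := refine_image e y (comp_eq_zero_of_killed _ hQ hy)
  refine ⟨T', π, hπ, s ≫ kernel.ι _, hs.trans (Category.assoc _ _ _).symm, ?_⟩
  rw [Category.assoc, kernel.condition, comp_zero]

theorem exists_deep [IsNoetherian X] (hF : Formal.IsCohFormal I F) (hg : Gens X I c a) (N₁ : ℕ)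
    (hsep : ∀ {T : X.Modules} (t : T ⟶ D.G), (∀ i, t ≫ Formal.smulMod A D.G (a i) = 0) →
      t ≫ D.φ N₁ = 0 → t = 0) :
    ∃ c₁, ∀ n, c₁ ≤ n → ∀ {T : X.Modules} (t : T ⟶ D.G), t ≫ D.φ n = 0 →
      t ≫ modJπ (I ^ (n - c₁)) D.G = 0 := by
  obtain ⟨c', hc'⟩ := artinRees I D.isCoh (QCoh.isCoh_biproduct (fun _ : σ => D.G) fun _ => D.isCoh) (D.Δ D.G)
  refine ⟨c' + N₁, fun n hn T t ht => ?_⟩
  have hΔ : t ≫ D.Δ D.G ≫ modJπ (I ^ (n + 1)) _ = 0 := by
    rw [← Category.assoc]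
    refine modJπ_biproduct _ fun i => ?_
    rw [Category.assoc t, biproduct.lift_π]
    exact D.hker n t ht (a i) (hg.mem i)
  obtain ⟨T', π, hπ, t₀, t₁, he, h0, h1⟩ := hc' (n + 1) (by omega) t hΔ
  haveI := hπ
  have h0' : t₀ = 0 := by
    refine hsep t₀ (D.Δ_eq_zero.1 h0) ?_
    rw [eq_sub_of_add_eq he.symm, Preadditive.sub_comp, Category.assoc,
      D.φ_eq_zero_of_le (by omega) ht, comp_zero, D.φ_eq_zero hF (by omega) h1, sub_zero]
  rw [h0', zero_add] at he
  rw [← cancel_epi π, comp_zero, ← Category.assoc, he]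
  exact modJπ_le (Ideal.pow_le_pow_right (by omega)) h1

theorem exists_amb [IsNoetherian X] (hF : Formal.IsCohFormal I F) (hg : Gens X I c a) (N₁ : ℕ)
    (hsep : ∀ {T : X.Modules} (t : T ⟶ D.G), (∀ i, t ≫ Formal.smulMod A D.G (a i) = 0) →
      t ≫ D.φ N₁ = 0 → t = 0) :
    ∃ c₂, ∀ n, c₂ ≤ n → ∀ {T : X.Modules} (y : T ⟶ D.H), (∀ i, (y ≫ D.pr i) ≫ D.φ n = 0) →
      ∃ (T' : X.Modules) (π : T' ⟶ T) (_ : Epi π) (g : T' ⟶ D.G),
        π ≫ y = g ≫ D.δ ∧ g ≫ modJπ (I ^ (n - c₂)) D.G = 0 := by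
  obtain ⟨c₁, hc₁⟩ := D.exists_deep hF hg N₁ hsep
  obtain ⟨c', hc'⟩ := artinRees I D.isCoh_H (QCoh.isCoh_biproduct (fun _ : σ => D.G) fun _ => D.isCoh) (kernel.ι D.Φ)
  refine ⟨c₁ + c' + c, fun n hn T y hy => ?_⟩
  have hK : y ≫ kernel.ι D.Φ ≫ modJπ (I ^ (n - c₁)) _ = 0 := by
    rw [← Category.assoc]
    refine modJπ_biproduct _ fun i => ?_
    rw [Category.assoc y]
    exact hc₁ n (by omega) _ (hy i)
  obtain ⟨T', π, hπ, y₀, y₁, he, h0, h1⟩ := hc' (n - c₁) (by omega) y hK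
  haveI := hπ
  rw [show y₀ = 0 by rwa [← cancel_mono (kernel.ι D.Φ), zero_comp], zero_add] at he
  obtain ⟨T'', π', hπ', g, hg1, hg2⟩ := D.exists_δ_lift hg (n - (c₁ + c' + c)) y₁
    (modJπ_le (Ideal.pow_le_pow_right (by omega)) h1)
  haveI := hπ'
  exact ⟨T'', π' ≫ π, epi_comp _ _, g, by rw [Category.assoc, he, hg1], hg2⟩

theorem exists_exist [IsNoetherian X] (hF : Formal.IsCohFormal I F) (hg : Gens X I c a) (N₁ : ℕ)
    (hsep : ∀ {T : X.Modules} (t : T ⟶ D.G), (∀ i, t ≫ Formal.smulMod A D.G (a i) = 0) →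
      t ≫ D.φ N₁ = 0 → t = 0) :
    ∃ c₃, ∀ (j k : ℕ) (h : j ≤ k), j + c₃ ≤ k → ∀ {T : X.Modules} (x : T ⟶ F.obj (op k)),
      ∃ (T' : X.Modules) (π : T' ⟶ T) (_ : Epi π) (y : T' ⟶ D.H),
        ∀ i, (y ≫ D.pr i) ≫ D.φ j = (π ≫ x ≫ ARSys.tr F h) ≫ Formal.smulMod A _ (a i) := by
  obtain ⟨c₁, hc₁⟩ := D.exists_deep hF hg N₁ hsep
  obtain ⟨c', hc'⟩ := artinRees I (QCoh.isCoh_biproduct (fun _ : σ => D.G) fun _ => D.isCoh)
    (QCoh.isCoh_biproduct (fun _ : σ × σ => D.G) fun _ => D.isCoh) D.Φ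
  refine ⟨c₁ + c' + 1, fun j k h hk T x => ?_⟩
  obtain ⟨T₁, π₁, hπ₁, s, hs⟩ := refine_family (fun _ : σ => D.φ k)
    (fun i => x ≫ Formal.smulMod A _ (a i)) (fun i => by
      rw [Category.assoc, smulMod_naturality, mem_killIdeal.1 (D.hcok k (hg.mem i)), comp_zero, comp_zero])
  haveI := hπ₁
  let y := biproduct.lift s
  have hw : y ≫ D.Φ ≫ modJπ (I ^ (k - c₁)) _ = 0 := by
    rw [← Category.assoc]
    refine modJπ_biproduct _ fun il => hc₁ k (by omega) _ ?_
    simp only [y, Category.assoc, biproduct.lift_π_assoc, biproduct.lift_π, Preadditive.comp_sub,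
      Preadditive.sub_comp, biproduct.lift_π_assoc]
    rw [smulMod_naturality, smulMod_naturality, ← Category.assoc, ← Category.assoc, ← hs, ← hs,
      Category.assoc, Category.assoc, Category.assoc, Category.assoc, smulMod_comm, sub_self]
  obtain ⟨T₂, π₂, hπ₂, y₀, y₁, he, h0, h1⟩ := hc' (k - c₁) (by omega) y hw
  haveI := hπ₂
  refine ⟨T₂, π₂ ≫ π₁, epi_comp _ _, kernel.lift D.Φ y₀ h0, fun i => ?_⟩
  have e1 : (y₁ ≫ biproduct.π (fun _ : σ => D.G) i) ≫ D.φ j = 0 :=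
    D.φ_eq_zero hF (show j + 1 ≤ k - c₁ - c' by omega) (modJπ_natural _ h1)
  calc (kernel.lift D.Φ y₀ h0 ≫ D.pr i) ≫ D.φ j
      = ((y₀ + y₁) ≫ biproduct.π (fun _ : σ => D.G) i) ≫ D.φ j := by
        rw [pr, kernel.lift_ι_assoc, Preadditive.add_comp, Preadditive.add_comp, e1, add_zero]
    _ = (π₂ ≫ s i) ≫ D.φ j := by rw [← he, Category.assoc π₂, biproduct.lift_π]
    _ = (π₂ ≫ π₁) ≫ x ≫ Formal.smulMod A _ (a i) ≫ ARSys.tr F h := by
        rw [← D.compat h, Category.assoc, ← Category.assoc (s i), ← hs, Category.assoc, Category.assoc,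
          Category.assoc]
    _ = _ := by rw [smulMod_naturality, Category.assoc, Category.assoc, Category.assoc, Category.assoc]

end Data

/-- All the bounds used in the construction. -/
structure Tame (I : Ideal A) (F : ℕᵒᵖ ⥤ X.Modules) (c : ℕ) {σ : Type u} [Fintype σ] (a : σ → A)
    extends Data I F c a where
  hF : Formal.IsCohFormal I F
  gens : Gens X I c a
  N₁ : ℕ
  c₂ : ℕ
  c₃ : ℕ
  sep : ∀ {T : X.Modules} (t : T ⟶ G), (∀ i, t ≫ Formal.smulMod A G (a i) = 0) → t ≫ φ N₁ = 0 → t = 0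
  amb : ∀ n, c₂ ≤ n → ∀ {T : X.Modules} (y : T ⟶ toData.H), (∀ i, (y ≫ toData.pr i) ≫ φ n = 0) →
      ∃ (T' : X.Modules) (π : T' ⟶ T) (_ : Epi π) (g : T' ⟶ G),
        π ≫ y = g ≫ toData.δ ∧ g ≫ modJπ (I ^ (n - c₂)) G = 0
  exist : ∀ (j k : ℕ) (h : j ≤ k), j + c₃ ≤ k → ∀ {T : X.Modules} (x : T ⟶ F.obj (op k)),
      ∃ (T' : X.Modules) (π : T' ⟶ T) (_ : Epi π) (y : T' ⟶ toData.H),
        ∀ i, (y ≫ toData.pr i) ≫ φ j = (π ≫ x ≫ ARSys.tr F h) ≫ Formal.smulMod A _ (a i)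

namespace Tame

variable (E : Tame I F c a)

/-- The truncation level. -/
abbrev m : ℕ := max E.N₁ c

/-- The working level. -/
abbrev N₃ : ℕ := E.m + E.c₂ + 1

/-- The defining map of `P n`. -/
abbrev ψ (n : ℕ) : E.H ⊞ F.obj (op n) ⟶ ⨁ fun _ : σ => F.obj (op n) :=
  biproduct.lift fun i => biprod.fst ≫ E.pr i ≫ E.φ n - biprod.snd ≫ Formal.smulMod A _ (a i)

/-- Pairs of a tuple and an element which agree. -/
abbrev P (n : ℕ) : X.Modules := kernel (E.ψ n)

def fstP (n : ℕ) : E.P n ⟶ E.H := kernel.ι (E.ψ n) ≫ biprod.fst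

def sndP (n : ℕ) : E.P n ⟶ F.obj (op n) := kernel.ι (E.ψ n) ≫ biprod.snd

theorem condP (n : ℕ) (i : σ) :
    (E.fstP n ≫ E.pr i) ≫ E.φ n = E.sndP n ≫ Formal.smulMod A _ (a i) := by
  have h := congrArg (· ≫ biproduct.π (fun _ : σ => F.obj (op n)) i) (kernel.condition (E.ψ n))
  simp only [Category.assoc, biproduct.lift_π, zero_comp, Preadditive.comp_sub, sub_eq_zero] at h
  simp only [fstP, sndP, Category.assoc]
  exact h

def mkP {n : ℕ} {T : X.Modules} (y : T ⟶ E.H) (x : T ⟶ F.obj (op n))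
    (h : ∀ i, (y ≫ E.pr i) ≫ E.φ n = x ≫ Formal.smulMod A _ (a i)) : T ⟶ E.P n :=
  kernel.lift _ (biprod.lift y x) (by
    refine biproduct.hom_ext _ _ fun i => ?_
    simp only [Category.assoc, biproduct.lift_π, zero_comp, Preadditive.comp_sub, biprod.lift_fst_assoc,
      biprod.lift_snd_assoc, sub_eq_zero]
    simpa only [Category.assoc] using h i)

theorem mkP_fst {n : ℕ} {T : X.Modules} (y : T ⟶ E.H) (x : T ⟶ F.obj (op n))
    (h : ∀ i, (y ≫ E.pr i) ≫ E.φ n = x ≫ Formal.smulMod A _ (a i)) : E.mkP y x h ≫ E.fstP n = y := by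
  rw [fstP, mkP, kernel.lift_ι_assoc, biprod.lift_fst]

theorem mkP_snd {n : ℕ} {T : X.Modules} (y : T ⟶ E.H) (x : T ⟶ F.obj (op n))
    (h : ∀ i, (y ≫ E.pr i) ≫ E.φ n = x ≫ Formal.smulMod A _ (a i)) : E.mkP y x h ≫ E.sndP n = x := by
  rw [sndP, mkP, kernel.lift_ι_assoc, biprod.lift_snd]

theorem P_ext {n : ℕ} {T : X.Modules} {p p' : T ⟶ E.P n} (h₁ : p ≫ E.fstP n = p' ≫ E.fstP n)
    (h₂ : p ≫ E.sndP n = p' ≫ E.sndP n) : p = p' := by
  refine (cancel_mono (kernel.ι (E.ψ n))).1 (biprod.hom_ext _ _ ?_ ?_)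
  · simpa only [fstP, Category.assoc] using h₁
  · simpa only [sndP, Category.assoc] using h₂

/-- Change of level. -/
def trP {j n : ℕ} (h : j ≤ n) : E.P n ⟶ E.P j :=
  E.mkP (E.fstP n) (E.sndP n ≫ ARSys.tr F h) fun i => by
    rw [← E.compat h, ← Category.assoc, condP, Category.assoc, Category.assoc, smulMod_naturality]

theorem trP_fst {j n : ℕ} (h : j ≤ n) : E.trP h ≫ E.fstP j = E.fstP n := by rw [trP, mkP_fst]

theorem trP_snd {j n : ℕ} (h : j ≤ n) : E.trP h ≫ E.sndP j = E.sndP n ≫ ARSys.tr F h := by rw [trP, mkP_snd]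

theorem trP_trP {j k n : ℕ} (h : j ≤ k) (h' : k ≤ n) : E.trP h' ≫ E.trP h = E.trP (h.trans h') := by
  refine E.P_ext ?_ ?_
  · rw [Category.assoc, trP_fst, trP_fst, trP_fst]
  · rw [Category.assoc, trP_snd, ← Category.assoc, trP_snd, trP_snd, Category.assoc, Algz7.tr_trans]

/-- Truncation. -/
def pm {n : ℕ} (h : E.m ≤ n) : E.P n ⟶ E.H ⊞ F.obj (op E.m) :=
  biprod.lift (E.fstP n) (E.sndP n ≫ ARSys.tr F h)

theorem pm_fst {n : ℕ} (h : E.m ≤ n) : E.pm h ≫ biprod.fst = E.fstP n := biprod.lift_fst _ _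

theorem pm_snd {n : ℕ} (h : E.m ≤ n) : E.pm h ≫ biprod.snd = E.sndP n ≫ ARSys.tr F h :=
  biprod.lift_snd _ _

theorem trP_pm {j n : ℕ} (h : j ≤ n) (h' : E.m ≤ j) : E.trP h ≫ E.pm h' = E.pm (h'.trans h) := by
  refine biprod.hom_ext _ _ ?_ ?_
  · rw [Category.assoc, pm_fst, pm_fst, trP_fst]
  · rw [Category.assoc, pm_snd, pm_snd, ← Category.assoc, trP_snd, Category.assoc, Algz7.tr_trans]

theorem m_le : E.m ≤ E.N₃ := by show E.m ≤ E.m + E.c₂ + 1; omega

/-- The module. -/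
abbrev M : X.Modules := Abelian.image (E.pm E.m_le)

abbrev ιM : E.M ⟶ E.H ⊞ F.obj (op E.m) := Abelian.image.ι _

def q {n : ℕ} (h : E.N₃ ≤ n) : E.P n ⟶ E.M := E.trP h ≫ Abelian.factorThruImage (E.pm E.m_le)

theorem q_ι {n : ℕ} (h : E.N₃ ≤ n) : E.q h ≫ E.ιM = E.pm (E.m_le.trans h) := by
  rw [q, Category.assoc, Abelian.image.fac, trP_pm]

theorem trP_q {j n : ℕ} (h : j ≤ n) (h' : E.N₃ ≤ j) : E.trP h ≫ E.q h' = E.q (h'.trans h) := by
  rw [q, q, ← Category.assoc, trP_trP]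

theorem epi_q {n : ℕ} (h : E.N₃ ≤ n) : Epi (E.q h) := by
  haveI := Algz7.epi_tr E.hF (show E.N₃ ≤ n + E.c₃ by omega)
  obtain ⟨T₁, π₁, hπ₁, z, hz⟩ := surjective_up_to_refinements_of_epi
    (ARSys.tr F (show E.N₃ ≤ n + E.c₃ by omega)) (E.sndP E.N₃)
  haveI := hπ₁
  obtain ⟨T₂, π₂, hπ₂, y', hy'⟩ := E.exist n (n + E.c₃) (by omega) le_rfl z
  haveI := hπ₂
  have hd : ∀ i, ((π₂ ≫ π₁ ≫ E.fstP E.N₃ - y') ≫ E.pr i) ≫ E.φ E.N₃ = 0 := fun i => by
    rw [Preadditive.sub_comp, Preadditive.sub_comp, sub_eq_zero]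
    refine Eq.trans ?_ (((Category.assoc _ _ _).symm.trans (congrArg (· ≫ ARSys.tr F h) (hy' i))).symm.trans ?_)
    · rw [Category.assoc π₂, Category.assoc π₁, Category.assoc π₂, Category.assoc π₁, condP, ← Category.assoc π₁,
        hz, Category.assoc, Category.assoc, Category.assoc, smulMod_naturality, Category.assoc]
      rw [← Algz7.tr_trans F h (show n ≤ n + E.c₃ by omega), Category.assoc]
    · rw [E.compat h]
  obtain ⟨T₃, π₃, hπ₃, g, hg1, hg2⟩ := E.amb E.N₃ (by show E.c₂ ≤ E.m + E.c₂ + 1; omega) _ hd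
  haveI := hπ₃
  have hgm : g ≫ E.φ E.m = 0 :=
    E.φ_eq_zero E.hF (show E.m + 1 ≤ E.N₃ - E.c₂ by show E.m + 1 ≤ E.m + E.c₂ + 1 - E.c₂; omega) hg2
  let x' := π₃ ≫ π₂ ≫ z ≫ ARSys.tr F (show n ≤ n + E.c₃ by omega)
  let p := E.mkP (π₃ ≫ y' + g ≫ E.δ) (x' + g ≫ E.φ n) fun i => by
    rw [Preadditive.add_comp, Preadditive.add_comp, Preadditive.add_comp, Category.assoc π₃, Category.assoc π₃,
      hy' i, Category.assoc g E.δ, E.δ_pr, Category.assoc g, smulMod_naturality]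
    simp only [x', Category.assoc]
  have hp : p ≫ E.q h = π₃ ≫ π₂ ≫ π₁ ≫ Abelian.factorThruImage (E.pm E.m_le) := by
    rw [← cancel_mono E.ιM, Category.assoc, q_ι, Category.assoc, Category.assoc, Category.assoc,
      Abelian.image.fac]
    refine biprod.hom_ext _ _ ?_ ?_
    · simp only [Category.assoc, pm_fst]
      rw [mkP_fst, ← hg1, Preadditive.comp_sub, add_sub_cancel]
    · simp only [Category.assoc, pm_snd]
      rw [← Category.assoc, mkP_snd, Preadditive.add_comp, Category.assoc g, E.compat, hgm, add_zero,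
        ← Category.assoc π₁ (E.sndP E.N₃), hz]
      simp only [x', Category.assoc, Algz7.tr_trans]
  refine Preadditive.epi_of_cancel_zero _ fun u hu => ?_
  rw [← cancel_epi (Abelian.factorThruImage (E.pm E.m_le)), ← cancel_epi π₁, ← cancel_epi π₂, ← cancel_epi π₃,
    comp_zero, comp_zero, comp_zero, comp_zero]
  have := congrArg (p ≫ ·) hu
  simpa only [← Category.assoc, hp, comp_zero] using this

theorem snd_eq_zero_of_fst {j n : ℕ} (hjn : j + E.c₂ + 1 ≤ n) (hn : E.N₃ ≤ n) {T : X.Modules}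
    (t : T ⟶ E.P n) (h₁ : t ≫ E.fstP n = 0) (h₂ : t ≫ E.sndP n ≫ ARSys.tr F (E.m_le.trans hn) = 0) :
    t ≫ E.sndP n ≫ ARSys.tr F (show j ≤ n by omega) = 0 := by
  have hcm : c ≤ E.m := le_max_right _ _
  obtain ⟨ψ, hψ⟩ := Algz7.factor E.hF (show c ≤ n from hcm.trans (E.m_le.trans hn))
    (fun b hb => E.hcok n (Ideal.pow_le_pow_right (Nat.le_succ c) hb)) (cokernel.π (E.φ n))
  have hx : (t ≫ E.sndP n) ≫ cokernel.π (E.φ n) = 0 := by
    rw [← hψ, ← Algz7.tr_trans F hcm (E.m_le.trans hn), Category.assoc t]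
    simp only [Category.assoc]
    rw [← Category.assoc (E.sndP n), ← Category.assoc t, h₂, zero_comp]
  obtain ⟨T₁, π₁, hπ₁, g, hg⟩ := refine_image (E.φ n) (t ≫ E.sndP n) hx
  haveI := hπ₁
  have hgi : ∀ i, ((g ≫ E.δ) ≫ E.pr i) ≫ E.φ n = 0 := fun i => by
    rw [Category.assoc g, E.δ_pr, Category.assoc g, smulMod_naturality, ← Category.assoc, ← hg,
      Category.assoc, Category.assoc, ← E.condP, ← Category.assoc t, ← Category.assoc t, h₁, zero_comp,
      zero_comp, comp_zero]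
  obtain ⟨T₂, π₂, hπ₂, g', hg'1, hg'2⟩ := E.amb n (by omega) (g ≫ E.δ) hgi
  haveI := hπ₂
  have hm' : ∀ k, k ≤ E.m → (π₂ ≫ g) ≫ E.φ k = 0 := fun k hk => by
    rw [Category.assoc, ← E.compat (hk.trans (E.m_le.trans hn)), ← Category.assoc g, ← hg, Category.assoc,
      ← Algz7.tr_trans F hk (E.m_le.trans hn), Category.assoc, ← Category.assoc (E.sndP n), ← Category.assoc t,
      h₂, zero_comp, comp_zero, comp_zero]
  have hgg : π₂ ≫ g = g' := by
    rw [← sub_eq_zero]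
    refine E.sep _ (fun i => ?_) ?_
    · rw [← E.δ_pr, ← Category.assoc, Preadditive.sub_comp, Category.assoc, hg'1, sub_self, zero_comp]
    · rw [Preadditive.sub_comp, hm' _ (le_max_left _ _), E.φ_eq_zero E.hF ?_ hg'2, sub_zero]
      have h4 : E.N₁ ≤ E.m := le_max_left _ _
      have h3 : E.m + E.c₂ + 1 ≤ n := hn
      show E.N₁ + 1 ≤ n - E.c₂
      omega
  rw [← cancel_epi π₁, comp_zero, ← Category.assoc t, ← Category.assoc π₁, hg, Category.assoc g,
    E.compat (show j ≤ n by omega), ← cancel_epi π₂, comp_zero, ← Category.assoc, hgg]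
  exact E.φ_eq_zero E.hF (by omega) hg'2

/-- The level at which `r j` is defined. -/
abbrev lev (j : ℕ) : ℕ := max E.N₃ (j + E.c₂ + 1)

theorem le_lev (j : ℕ) : j ≤ E.lev j := (show j ≤ j + E.c₂ + 1 by omega).trans (le_max_right _ _)

theorem r_aux (j : ℕ) : kernel.ι (E.q (le_max_left E.N₃ (j + E.c₂ + 1))) ≫
    E.sndP (E.lev j) ≫ ARSys.tr F (E.le_lev j) = 0 := by
  have h := (congrArg (· ≫ E.ιM) (kernel.condition (E.q (le_max_left E.N₃ (j + E.c₂ + 1))))).trans zero_comp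
  rw [Category.assoc, q_ι] at h
  refine E.snd_eq_zero_of_fst (le_max_right _ _) (le_max_left _ _) _ ?_ ?_
  · simpa only [Category.assoc, pm_fst, zero_comp] using congrArg (· ≫ biprod.fst) h
  · simpa only [Category.assoc, pm_snd, zero_comp] using congrArg (· ≫ biprod.snd) h

/-- The maps to the formal module. -/
def r (j : ℕ) : E.M ⟶ F.obj (op j) :=
  haveI := E.epi_q (le_max_left E.N₃ (j + E.c₂ + 1))
  Abelian.epiDesc (E.q (le_max_left E.N₃ (j + E.c₂ + 1))) _ (E.r_aux j)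

theorem q_r {j n : ℕ} (h : E.lev j ≤ n) :
    E.q ((le_max_left _ _).trans h) ≫ E.r j = E.sndP n ≫ ARSys.tr F ((E.le_lev j).trans h) := by
  haveI := E.epi_q (le_max_left E.N₃ (j + E.c₂ + 1))
  rw [← trP_q E h (le_max_left _ _), Category.assoc]
  refine (congrArg (E.trP h ≫ ·) (Abelian.comp_epiDesc _ _ _)).trans ?_
  rw [← Category.assoc, trP_snd, Category.assoc, Algz7.tr_trans]

theorem r_tr (j : ℕ) : E.r (j + 1) ≫ ARSys.tr F (Nat.le_succ j) = E.r j := by
  let n := max (E.lev (j + 1)) (E.lev j)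
  haveI := E.epi_q ((le_max_left E.N₃ _).trans (le_max_left (E.lev (j + 1)) (E.lev j)))
  rw [← cancel_epi (E.q ((le_max_left E.N₃ _).trans (le_max_left (E.lev (j + 1)) (E.lev j)))),
    ← Category.assoc, q_r E (le_max_left (E.lev (j + 1)) (E.lev j)), q_r E (le_max_right (E.lev (j + 1)) (E.lev j)), Category.assoc, Algz7.tr_trans]

theorem epi_r (j : ℕ) : Epi (E.r j) := by
  let n := E.lev j
  haveI := Algz7.epi_tr E.hF (show j ≤ n + E.c₃ from (E.le_lev j).trans (Nat.le_add_right _ _))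
  obtain ⟨T₁, π₁, hπ₁, y, hy⟩ := E.exist n (n + E.c₃) (Nat.le_add_right _ _) le_rfl (𝟙 _)
  haveI := hπ₁
  let p := E.mkP y (π₁ ≫ ARSys.tr F (Nat.le_add_right n E.c₃)) fun i => by simpa using hy i
  have hp : (p ≫ E.q (le_max_left _ _)) ≫ E.r j = π₁ ≫ ARSys.tr F ((E.le_lev j).trans (Nat.le_add_right _ _)) := by
    rw [Category.assoc, q_r E (le_refl (E.lev j)), ← Category.assoc, mkP_snd, Category.assoc, Algz7.tr_trans]
  haveI : Epi ((p ≫ E.q (le_max_left _ _)) ≫ E.r j) := by rw [hp]; infer_instance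
  exact epi_of_epi (p ≫ E.q (le_max_left _ _)) _

/-- The structure map from the module. -/
def a₀ : E.G ⟶ E.M :=
  E.mkP E.δ (E.φ E.N₃) (fun i => by rw [E.δ_pr, smulMod_naturality]) ≫ Abelian.factorThruImage (E.pm E.m_le)

theorem a₀_ι : E.a₀ ≫ E.ιM = biprod.lift E.δ (E.φ E.m) := by
  rw [a₀, Category.assoc, Abelian.image.fac]
  refine biprod.hom_ext _ _ ?_ ?_
  · rw [Category.assoc, pm_fst, biprod.lift_fst, mkP_fst]
  · rw [Category.assoc, pm_snd, biprod.lift_snd, ← Category.assoc, mkP_snd, E.compat]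

theorem a₀_r (j : ℕ) : E.a₀ ≫ E.r j = E.φ j := by
  have h : E.mkP E.δ (E.φ E.N₃) (fun i => by rw [E.δ_pr, smulMod_naturality]) =
      E.mkP E.δ (E.φ (E.lev j)) (fun i => by rw [E.δ_pr, smulMod_naturality]) ≫
        E.trP (le_max_left E.N₃ (j + E.c₂ + 1)) := by
    refine E.P_ext ?_ ?_
    · rw [Category.assoc, trP_fst, mkP_fst, mkP_fst]
    · rw [Category.assoc, trP_snd, mkP_snd, ← Category.assoc, mkP_snd, E.compat]
  rw [a₀, Category.assoc, h, Category.assoc]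
  refine Eq.trans (congrArg (_ ≫ ·) ((Category.assoc _ _ _).symm.trans (E.q_r (le_refl (E.lev j))))) ?_
  rw [← Category.assoc, mkP_snd, E.compat]

theorem mono_a₀ : Mono E.a₀ := by
  refine Preadditive.mono_of_cancel_zero _ fun {T} t ht => ?_
  have h := congrArg (· ≫ E.ιM) ht
  simp only [Category.assoc t, a₀_ι, zero_comp] at h
  refine E.sep t (fun i => ?_) ?_
  · have h1 := congrArg (fun z => (z ≫ biprod.fst) ≫ E.pr i) h
    simpa only [Category.assoc, biprod.lift_fst_assoc, E.δ_pr, zero_comp] using h1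
  · refine E.φ_eq_zero_of_le (le_max_left E.N₁ c) ?_
    simpa only [Category.assoc, biprod.lift_snd, zero_comp] using congrArg (· ≫ biprod.snd) h

theorem smul_eq (i : σ) :
    Formal.smulMod A E.M (a i) = (E.ιM ≫ biprod.fst ≫ E.pr i) ≫ E.a₀ := by
  haveI := E.epi_q (le_refl E.N₃)
  rw [← cancel_epi (E.q (le_refl E.N₃)), ← cancel_mono E.ιM]
  simp only [Category.assoc]
  rw [a₀_ι, smulMod_naturality, ← Category.assoc (E.q _) E.ιM, q_ι, ← Category.assoc (E.q _) E.ιM, q_ι]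
  refine biprod.hom_ext _ _ ?_ ?_
  · simp only [Category.assoc, biprod.lift_fst, biprod.lift_fst_assoc, pm_fst]
    rw [smulMod_naturality biprod.fst, ← E.pr_δ i]
    simp only [Data.pr, Category.assoc]
  · simp only [Category.assoc, biprod.lift_snd, biprod.lift_fst_assoc, pm_snd]
    rw [smulMod_naturality biprod.snd, ← Category.assoc, pm_snd, ← E.compat E.m_le, Category.assoc,
      ← smulMod_naturality, ← Category.assoc, ← E.condP, ← E.pm_fst E.m_le]
    simp only [Data.pr, Category.assoc]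

theorem isCoh_M [IsNoetherian X] : Coh.IsCoh E.M := by
  have hP : Coh.IsCoh (E.P E.N₃) := QCoh.isCoh_kernel (isCoh_biprod E.isCoh_H (E.hF.1 _))
    (QCoh.isCoh_biproduct _ fun _ => E.hF.1 _) _
  exact QCoh.isCoh_kernel (isCoh_biprod E.isCoh_H (E.hF.1 _))
    (QCoh.isCoh_cokernel hP.1 (isCoh_biprod E.isCoh_H (E.hF.1 _)) _) _

theorem le_killIdeal_coker [IsNoetherian X] : I ^ c ≤ killIdeal (cokernel E.a₀) :=
  E.gens.gen _ (QCoh.isQCoh_cokernel E.isCoh.1 E.isCoh_M.1 _) fun i => by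
    rw [← cancel_epi (cokernel.π E.a₀), ← smulMod_naturality, smul_eq, Category.assoc, cokernel.condition,
      comp_zero, comp_zero]

theorem kernel_r_deep (j : ℕ) {n : ℕ} (hj : j + 1 + E.c₂ ≤ n) (hn : E.N₃ ≤ n) :
    kernel.ι (E.r n) ≫ modJπ (I ^ (j + 1)) E.M = 0 := by
  haveI := E.epi_q ((le_max_left E.N₃ _).trans (le_refl (E.lev n)))
  obtain ⟨T₁, π₁, hπ₁, p, hp⟩ := surjective_up_to_refinements_of_epi
    (E.q ((le_max_left E.N₃ _).trans (le_refl (E.lev n)))) (kernel.ι (E.r n))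
  haveI := hπ₁
  have hx : (p ≫ E.sndP _) ≫ ARSys.tr F ((E.le_lev n).trans (le_refl (E.lev n))) = 0 := by
    rw [Category.assoc, ← q_r E (le_refl (E.lev n)), ← Category.assoc, ← hp, Category.assoc, kernel.condition, comp_zero]
  have hy : ∀ i, ((p ≫ E.fstP _) ≫ E.pr i) ≫ E.φ n = 0 := fun i => by
    rw [← E.compat ((E.le_lev n).trans (le_refl (E.lev n))), ← Category.assoc _ (E.φ _), Category.assoc p,
      Category.assoc p, E.condP, Category.assoc, Category.assoc, smulMod_naturality, ← Category.assoc _ (ARSys.tr F _),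
      ← Category.assoc, ← Category.assoc p, hx, zero_comp]
  obtain ⟨T₂, π₂, hπ₂, g, hg1, hg2⟩ := E.amb n (by omega) _ hy
  haveI := hπ₂
  have key : π₂ ≫ π₁ ≫ kernel.ι (E.r n) = g ≫ E.a₀ := by
    rw [← cancel_mono E.ιM, hp, Category.assoc, Category.assoc, q_ι, Category.assoc g, a₀_ι]
    refine biprod.hom_ext _ _ ?_ ?_
    · simp only [Category.assoc, biprod.lift_fst, pm_fst]
      exact hg1
    · simp only [Category.assoc, biprod.lift_snd, pm_snd]
      rw [← Algz7.tr_trans F (E.m_le.trans hn) (E.le_lev n), ← Category.assoc p,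
        ← Category.assoc (p ≫ _) (ARSys.tr F _), hx, zero_comp, comp_zero]
      refine (E.φ_eq_zero E.hF ?_ hg2).symm
      have : E.m + E.c₂ + 1 ≤ n := hn
      omega
  rw [← cancel_epi π₁, ← cancel_epi π₂, comp_zero, comp_zero, ← Category.assoc π₁, ← Category.assoc π₂, key]
  exact modJπ_natural _ (modJπ_le (Ideal.pow_le_pow_right (by omega)) hg2)

theorem isIso_descJ_r (j : ℕ) :
    IsIso (descJ (J := I ^ (j + 1)) (E.r j) (le_killIdeal E.hF le_rfl)) := by
  let n := j + 1 + E.c₂ + E.N₃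
  haveI := E.epi_r n
  haveI := E.epi_r j
  let ψ₀ := Abelian.epiDesc (E.r n) (modJπ (I ^ (j + 1)) E.M)
    (E.kernel_r_deep j (Nat.le_add_right _ _) (Nat.le_add_left _ _))
  obtain ⟨ψ, hψ⟩ := Algz7.factor E.hF (show j ≤ n by omega)
    (fun b hb => le_killIdeal_modJ (I ^ (j + 1)) E.M hb) ψ₀
  have hr : ∀ k (h : j ≤ k), E.r k ≫ ARSys.tr F h = E.r j := fun k h => by
    induction k, h using Nat.le_induction with
    | base => rw [Algz7.tr_refl, Category.comp_id]
    | succ k h ih => rw [← Algz7.tr_trans F h (Nat.le_succ k), ← Category.assoc, r_tr, ih]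
  have h1 : E.r j ≫ ψ = modJπ (I ^ (j + 1)) E.M := by
    rw [← hr n (by omega), Category.assoc, hψ]
    exact Abelian.comp_epiDesc _ _ _
  refine ⟨ψ, ?_, ?_⟩
  · rw [← cancel_epi (modJπ (I ^ (j + 1)) E.M), π_descJ_assoc, h1, Category.comp_id]
  · rw [← cancel_epi (E.r j), ← Category.assoc, h1, π_descJ, Category.comp_id]

end Tame

/-- Existence, for maps from a completion. -/
theorem exists_algebraization_right [IsNoetherian X] (G : X.Modules) (hG : Coh.IsCoh G)
    (hF : Formal.IsCohFormal I F) (α : Formal.completion I G ⟶ F)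
    (hα : Formal2.KerCokerKilledByIPow I α) :
    ∃ (F' : X.Modules) (a : G ⟶ F') (β : Formal.completion I F' ≅ F), Coh.IsCoh F' ∧
      Formal2.KerCokerKilledByIPowHom I a ∧
      ∀ n : ℕ, Formal.modPowπ I (n + 1) G ≫ α.app (op n) =
        a ≫ Formal.modPowπ I (n + 1) F' ≫ β.hom.app (op n) := by
  obtain ⟨t, ht⟩ := hα
  obtain ⟨σ, _, a, ha, hgen⟩ := exists_generators (X := X) (I ^ (t + 1))
  let φ : ∀ n, G ⟶ F.obj (op n) := fun n => Formal.modPowπ I (n + 1) G ≫ α.app (op n)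
  have hstep : ∀ n, φ (n + 1) ≫ ARSys.tr F (Nat.le_succ n) = φ n := fun n => by
    show (Formal.modPowπ I (n + 1 + 1) G ≫ α.app (op (n + 1))) ≫ F.map (homOfLE (Nat.le_succ n)).op = _
    rw [Category.assoc, ← α.naturality, ← Category.assoc]
    refine congrArg (· ≫ α.app (op n)) ?_
    rw [Algz7.completion_map_succ]
    exact Formal.modPowπ_trans I (n + 1) G
  haveI : ∀ n, Epi (Formal.modPowπ I (n + 1) G) := fun n => inferInstanceAs (Epi (cokernel.π _))
  let D : Data I F (t + 1) a :=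
    { G := G
      isCoh := hG
      φ := φ
      compat := fun {j n} h => by
        induction n, h using Nat.le_induction with
        | base => rw [Algz7.tr_refl, Category.comp_id]
        | succ k h ih => rw [← Algz7.tr_trans F h (Nat.le_succ k), ← Category.assoc, hstep, ih]
      hcok := fun n b hb => by
        let d : cokernel (α.app (op n)) ⟶ cokernel (φ n) := cokernel.desc _ (cokernel.π (φ n)) (by
          rw [← cancel_epi (Formal.modPowπ I (n + 1) G), comp_zero, ← Category.assoc]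
          exact cokernel.condition _)
        haveI : Epi d := epi_of_epi_fac (cokernel.π_desc (α.app (op n)) _ _)
        exact killIdeal_le_of_epi d ((ht n).2 b hb)
      hker := fun n T s hs b hb => by
        rw [Category.assoc, smulMod_naturality, ← Category.assoc]
        have h0 : (s ≫ Formal.modPowπ I (n + 1) G) ≫ α.app (op n) = 0 := by rw [Category.assoc]; exact hs
        show (s ≫ Formal.modPowπ I (n + 1) G) ≫ Formal.smulMod A _ b = 0
        rw [← kernel.lift_ι _ _ h0, Category.assoc, ← smulMod_naturality, (ht n).1 b hb, zero_comp, comp_zero] }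
  obtain ⟨D', q, hq, N₁, hqφ, hqker, hsep⟩ := D.exists_reduced hF hgen ha
  haveI := hq
  have hg : Gens X I (t + 1) a := ⟨ha, hgen⟩
  obtain ⟨c₂, hc₂⟩ := D'.exists_amb hF hg N₁ hsep
  obtain ⟨c₃, hc₃⟩ := D'.exists_exist hF hg N₁ hsep
  let E : Tame I F (t + 1) a :=
    { toData := D', hF := hF, gens := hg, N₁ := N₁, c₂ := c₂, c₃ := c₃, sep := hsep, amb := hc₂, exist := hc₃ }
  let b₀ : ∀ n, (Formal.completion I E.M).obj (op n) ⟶ F.obj (op n) := fun n =>
    descJ (J := I ^ (n + 1)) (E.r n) (le_killIdeal hF le_rfl)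
  let β₀ : Formal.completion I E.M ⟶ F := NatTrans.ofOpSequence b₀ fun n => by
    rw [Algz7.completion_map_succ]
    refine (cancel_epi (modJπ (I ^ (n + 1 + 1)) E.M)).1 ?_
    show modJπ (I ^ (n + 1 + 1)) E.M ≫ Formal.modPowTrans I (n + 1) E.M ≫ descJ (E.r n) _ =
      modJπ (I ^ (n + 1 + 1)) E.M ≫ descJ (E.r (n + 1)) _ ≫ _
    rw [← Category.assoc, show modJπ (I ^ (n + 1 + 1)) E.M ≫ Formal.modPowTrans I (n + 1) E.M =
      modJπ (I ^ (n + 1)) E.M from Formal.modPowπ_trans I (n + 1) E.M, π_descJ, π_descJ_assoc]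
    exact (E.r_tr n).symm
  haveI : ∀ n : ℕᵒᵖ, IsIso (β₀.app n) := fun n => E.isIso_descJ_r n.unop
  haveI : IsIso β₀ := NatIso.isIso_of_isIso_app _
  refine ⟨E.M, q ≫ E.a₀, asIso β₀, E.isCoh_M, ⟨t, fun b hb => ?_, fun b hb => ?_⟩, fun n => ?_⟩
  · haveI := E.mono_a₀
    let e := kernelCompMono q E.a₀
    rw [← cancel_epi e.inv, comp_zero, ← smulMod_naturality]
    exact (congrArg (· ≫ e.inv) (mem_killIdeal.1 (hqker hb))).trans zero_comp
  · let d : cokernel E.a₀ ⟶ cokernel (q ≫ E.a₀) := cokernel.desc _ (cokernel.π _) (by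
      rw [← cancel_epi q, comp_zero, ← Category.assoc, cokernel.condition])
    haveI : Epi d := epi_of_epi_fac (cokernel.π_desc E.a₀ _ _)
    exact killIdeal_le_of_epi d (E.le_killIdeal_coker hb)
  · show φ n = (q ≫ E.a₀) ≫ modJπ (I ^ (n + 1)) E.M ≫ descJ (J := I ^ (n + 1)) (E.r n) (le_killIdeal hF le_rfl)
    rw [π_descJ, Category.assoc, E.a₀_r]
    exact (hqφ n).symm

end Groth.Agent.ExistEasy
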