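import Groth.Agent.ExistEasy.Refine
import Groth.Agent.Algz7.Completion

/-!
# Maps from a coherent module to a formal module with bounded kernels and cokernels
-/

universe u

set_option backward.isDefEq.respectTransparency false
set_option backward.isDefEq.respectTransparency.types false

open CategoryTheory CategoryTheory.Limits AlgebraicGeometry TopologicalSpace Opposite

noncomputable section

namespace Groth.Agent.ExistEasy

open Groth.Agent Groth.Agent.FFun

attribute [local instance] QCoh.hasFiniteBiproducts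

variable {A : Type u} [CommRing A] {X : Scheme.{u}} [X.Over (Spec (CommRingCat.of A))]

theorem isCoh_biprod [IsNoetherian X] {M N : X.Modules} (hM : Coh.IsCoh M) (hN : Coh.IsCoh N) :
    Coh.IsCoh (M ⊞ N) := by
  let T : ULift.{u} Bool → X.Modules := fun b => cond b.down M N
  have hT : ∀ b, Coh.IsCoh (T b) := fun b => by rcases b with ⟨_ | _⟩ <;> assumption
  let e : (⨁ T) ⟶ M ⊞ N := biproduct.desc fun b => match b with
    | ⟨true⟩ => biprod.inl
    | ⟨false⟩ => biprod.inr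
  haveI : Epi e := Preadditive.epi_of_cancel_zero _ fun g hg => by
    refine biprod.hom_ext' _ _ ?_ ?_
    · have := congrArg (biproduct.ι T ⟨true⟩ ≫ ·) hg
      simp only [e, biproduct.ι_desc_assoc, comp_zero] at this ⊢
      exact this
    · have := congrArg (biproduct.ι T ⟨false⟩ ≫ ·) hg
      simp only [e, biproduct.ι_desc_assoc, comp_zero] at this ⊢
      exact this
  refine Algz7.isCoh_of_epi e (QCoh.isCoh_biproduct T hT) ?_
  have hS : (ShortComplex.mk (biprod.inl : M ⟶ M ⊞ N) biprod.snd biprod.inl_snd).Splitting :=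
    ShortComplex.Splitting.ofHasBinaryBiproduct M N
  exact QCoh.isQCoh_X₂ hS.shortExact hM.1 hN.1

theorem smulMod_comm (M : X.Modules) (a b : A) :
    Formal.smulMod A M a ≫ Formal.smulMod A M b = Formal.smulMod A M b ≫ Formal.smulMod A M a := by
  rw [← smulMod_mul, ← smulMod_mul, mul_comm]

theorem modJπ_biproduct {σ : Type u} [Finite σ] {M : σ → X.Modules} {J : Ideal A} {T : X.Modules}
    (y : T ⟶ ⨁ M) (h : ∀ i, (y ≫ biproduct.π M i) ≫ modJπ J (M i) = 0) : y ≫ modJπ J (⨁ M) = 0 := by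
  classical
  cases nonempty_fintype σ
  have e : y = ∑ i, (y ≫ biproduct.π M i) ≫ biproduct.ι M i := by
    conv_lhs => rw [← Category.comp_id y, ← QCoh.biproduct_total' M, Preadditive.comp_sum]
    simp only [Category.assoc]
  rw [e, Preadditive.sum_comp]
  exact Finset.sum_eq_zero fun i _ => modJπ_natural _ (h i)

/-- A map from a coherent module to a formal module, with kernels and cokernels killed by `Iᶜ`. -/
structure Data (I : Ideal A) (F : ℕᵒᵖ ⥤ X.Modules) (c : ℕ) {σ : Type u} [Fintype σ] (a : σ → A) where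
  G : X.Modules
  isCoh : Coh.IsCoh G
  φ : ∀ n, G ⟶ F.obj (op n)
  compat : ∀ {j n : ℕ} (h : j ≤ n), φ n ≫ ARSys.tr F h = φ j
  hcok : ∀ n, I ^ c ≤ killIdeal (cokernel (φ n))
  hker : ∀ n {T : X.Modules} (t : T ⟶ G), t ≫ φ n = 0 → ∀ b ∈ I ^ c,
    (t ≫ Formal.smulMod A G b) ≫ modJπ (I ^ (n + 1)) G = 0

variable {I : Ideal A} {F : ℕᵒᵖ ⥤ X.Modules} {c : ℕ} {σ : Type u} [Fintype σ] {a : σ → A}

theorem le_killIdeal (hF : Formal.IsCohFormal I F) {n j : ℕ} (h : n + 1 ≤ j) :
    I ^ j ≤ killIdeal (F.obj (op n)) :=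
  fun _ hb => hF.2.1 n _ (Ideal.pow_le_pow_right h hb)

variable (D : Data I F c a)

namespace Data

theorem φ_eq_zero (hF : Formal.IsCohFormal I F) {n k : ℕ} (h : n + 1 ≤ k) {T : X.Modules} {t : T ⟶ D.G}
    (ht : t ≫ modJπ (I ^ k) D.G = 0) : t ≫ D.φ n = 0 :=
  comp_eq_zero_of_killed _ (le_killIdeal hF h) ht

theorem φ_eq_zero_of_le {j n : ℕ} (h : j ≤ n) {T : X.Modules} {t : T ⟶ D.G} (ht : t ≫ D.φ n = 0) :
    t ≫ D.φ j = 0 := by
  rw [← D.compat h, ← Category.assoc, ht, zero_comp]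

/-- The tuple of multiplications. -/
abbrev Δ (_D : Data I F c a) (G : X.Modules) : G ⟶ ⨁ fun _ : σ => G :=
  biproduct.lift fun i => Formal.smulMod A G (a i)

theorem Δ_eq_zero {T : X.Modules} {t : T ⟶ D.G} :
    t ≫ D.Δ D.G = 0 ↔ ∀ i, t ≫ Formal.smulMod A D.G (a i) = 0 := by
  constructor
  · intro h i
    have := congrArg (· ≫ biproduct.π (fun _ : σ => D.G) i) h
    simpa using this
  · intro h
    refine biproduct.hom_ext _ _ fun i => ?_
    simpa using h i

theorem exists_torsion_sep [IsNoetherian X]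
    (hgen : ∀ M : X.Modules, Coh.IsQCoh M → (∀ i, Formal.smulMod A M (a i) = 0) → I ^ c ≤ killIdeal M) :
    ∃ c', ∀ K, c' ≤ K → ∀ {T : X.Modules} (t : T ⟶ D.G),
      (∀ i, t ≫ Formal.smulMod A D.G (a i) = 0) → t ≫ modJπ (I ^ K) D.G = 0 → t = 0 := by
  let Tor := kernel (D.Δ D.G)
  have hTor : Coh.IsCoh Tor :=
    QCoh.isCoh_kernel D.isCoh (QCoh.isCoh_biproduct _ fun _ => D.isCoh) _
  have hk : I ^ c ≤ killIdeal Tor := hgen Tor hTor.1 fun i => by
    rw [← cancel_mono (kernel.ι (D.Δ D.G)), zero_comp, smulMod_naturality]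
    exact D.Δ_eq_zero.1 (kernel.condition _) i
  obtain ⟨c', hc'⟩ := artinRees I hTor D.isCoh (kernel.ι (D.Δ D.G))
  refine ⟨c' + c, fun K hK T t ht hπ => ?_⟩
  obtain ⟨T', π, hπ', t₀, t₁, he, h0, h1⟩ := hc' K (by omega) (kernel.lift _ t (D.Δ_eq_zero.2 ht))
    (by rw [kernel.lift_ι_assoc]; exact hπ)
  haveI := hπ'
  have h1' : t₁ = 0 := by
    have := comp_eq_zero_of_killed (𝟙 Tor) hk (modJπ_le (Ideal.pow_le_pow_right (show c ≤ K - c' by omega)) h1)
    rwa [Category.comp_id] at this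
  have h0' : t₀ = 0 := by rwa [← cancel_mono (kernel.ι (D.Δ D.G)), zero_comp]
  rw [h0', h1', add_zero] at he
  rw [← kernel.lift_ι (D.Δ D.G) t (D.Δ_eq_zero.2 ht), ← cancel_epi π, ← Category.assoc, he, zero_comp,
    comp_zero]

/-- The killed part of the kernels is eventually constant. -/
theorem exists_stable [IsNoetherian X] (hF : Formal.IsCohFormal I F)
    (hgen : ∀ M : X.Modules, Coh.IsQCoh M → (∀ i, Formal.smulMod A M (a i) = 0) → I ^ c ≤ killIdeal M)
    (ha : ∀ i, a i ∈ I ^ c) :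
    ∃ N₀ c', (∀ K, c' ≤ K → ∀ {T : X.Modules} (t : T ⟶ D.G),
        (∀ i, t ≫ Formal.smulMod A D.G (a i) = 0) → t ≫ modJπ (I ^ K) D.G = 0 → t = 0) ∧
      c' ≤ N₀ + 1 ∧ ∀ j {T : X.Modules} (g : T ⟶ D.G),
        (∀ i, g ≫ Formal.smulMod A D.G (a i) = 0) → g ≫ D.φ N₀ = 0 → g ≫ D.φ j = 0 := by
  obtain ⟨c'', hT⟩ := D.exists_torsion_sep hgen
  obtain ⟨c', hc'⟩ := artinRees I D.isCoh (QCoh.isCoh_biproduct (fun _ : σ => D.G) fun _ => D.isCoh) (D.Δ D.G)
  refine ⟨c'' + c, c'', hT, by omega, fun j T g hga hg => ?_⟩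
  let n := c'' + c
  let L := n + 1 - c
  let n' := j + n + c' + 1
  have hn : n ≤ n' := by omega
  let e := kernel.ι (modJπ (I ^ L) D.G) ≫ D.φ n'
  have hQ : I ^ (n + 1) ≤ killIdeal (cokernel e) := by
    rw [show n + 1 = L + c by omega, pow_add]
    refine Ideal.mul_le.2 fun b' hb' b hb => ?_
    show Formal.smulMod A (cokernel e) (b' * b) = 0
    obtain ⟨T₀, π₀, hπ₀, s, hs⟩ := refine_image (D.φ n') (Formal.smulMod A _ b) (by
      rw [smulMod_naturality, mem_killIdeal.1 (D.hcok n' hb), comp_zero])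
    haveI := hπ₀
    rw [← cancel_epi (cokernel.π e), ← smulMod_naturality, comp_zero, smulMod_mul, ← cancel_epi π₀,
      comp_zero, ← Category.assoc, ← Category.assoc, hs, Category.assoc s, ← smulMod_naturality,
      Category.assoc, Category.assoc]
    have hb0 : Formal.smulMod A D.G b' ≫ modJπ (I ^ L) D.G = 0 := by
      rw [smulMod_naturality, mem_killIdeal.1 (le_killIdeal_modJ _ _ hb'), comp_zero]
    have e1 : Formal.smulMod A D.G b' ≫ D.φ n' ≫ cokernel.π e =
        kernel.lift _ _ hb0 ≫ e ≫ cokernel.π e := by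
      simp only [e, ← Category.assoc, kernel.lift_ι]
    rw [e1, cokernel.condition, comp_zero, comp_zero]
  obtain ⟨ψ, hψ⟩ := Algz7.factor hF hn (fun b hb => hQ hb) (cokernel.π e)
  have h1 : (g ≫ D.φ n') ≫ cokernel.π e = 0 := by
    rw [← hψ, ← Category.assoc, Category.assoc g, D.compat hn, hg, zero_comp]
  obtain ⟨T₁, π₁, hπ₁, s, hs⟩ := refine_image e (g ≫ D.φ n') h1
  haveI := hπ₁
  let w := s ≫ kernel.ι (modJπ (I ^ L) D.G)
  have hw : (π₁ ≫ g - w) ≫ D.φ n' = 0 := by
    rw [Preadditive.sub_comp, Category.assoc, hs, Category.assoc, sub_self]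
  have hwΔ : w ≫ D.Δ D.G ≫ modJπ (I ^ (n' + 1)) _ = 0 := by
    rw [← Category.assoc]
    refine modJπ_biproduct _ fun i => ?_
    rw [Category.assoc w, biproduct.lift_π]
    have h := D.hker n' _ hw (a i) (ha i)
    rwa [Preadditive.sub_comp, Category.assoc π₁, hga, comp_zero, zero_sub, Preadditive.neg_comp,
      neg_eq_zero] at h
  obtain ⟨T₂, π₂, hπ₂, w₀, w₁, he, h0, h1'⟩ := hc' (n' + 1) (by omega) w hwΔ
  haveI := hπ₂
  have hw0 : w₀ = 0 := by
    refine hT L (by omega) w₀ (D.Δ_eq_zero.1 h0) ?_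
    rw [eq_sub_of_add_eq he.symm, Preadditive.sub_comp,
      modJπ_le (Ideal.pow_le_pow_right (show L ≤ n' + 1 - c' by omega)) h1', sub_zero]
    simp only [w, Category.assoc, kernel.condition, comp_zero]
  rw [hw0, zero_add] at he
  have h2 : (π₂ ≫ w) ≫ D.φ j = 0 := by
    rw [he]
    exact D.φ_eq_zero hF (by omega) h1'
  have h3 : (π₁ ≫ g) ≫ D.φ j = w ≫ D.φ j := by
    rw [← sub_eq_zero, ← Preadditive.sub_comp]
    exact D.φ_eq_zero_of_le (by omega) hw
  rw [← cancel_epi π₁, comp_zero, ← cancel_epi π₂, comp_zero, ← Category.assoc π₁, h3, ← Category.assoc, h2]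

/-- Dividing out the killed part of the limit of the kernels. -/
theorem exists_reduced [IsNoetherian X] (hF : Formal.IsCohFormal I F)
    (hgen : ∀ M : X.Modules, Coh.IsQCoh M → (∀ i, Formal.smulMod A M (a i) = 0) → I ^ c ≤ killIdeal M)
    (ha : ∀ i, a i ∈ I ^ c) :
    ∃ (D' : Data I F c a) (q : D.G ⟶ D'.G) (_ : Epi q) (N₁ : ℕ),
      (∀ n, q ≫ D'.φ n = D.φ n) ∧ I ^ c ≤ killIdeal (kernel q) ∧
      ∀ {T : X.Modules} (t : T ⟶ D'.G), (∀ i, t ≫ Formal.smulMod A D'.G (a i) = 0) →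
        t ≫ D'.φ N₁ = 0 → t = 0 := by
  obtain ⟨N₀, c', hT, hc', hst⟩ := D.exists_stable hF hgen ha
  let k := biprod.lift (D.Δ D.G) (D.φ N₀)
  let κ := kernel.ι k
  have hκ : ∀ {T : X.Modules} (s : T ⟶ kernel k), (∀ i, (s ≫ κ) ≫ Formal.smulMod A D.G (a i) = 0) ∧
      (s ≫ κ) ≫ D.φ N₀ = 0 := fun s => by
    have h : (s ≫ κ) ≫ k = 0 := by rw [Category.assoc, kernel.condition, comp_zero]
    refine ⟨D.Δ_eq_zero.1 ?_, ?_⟩
    · rw [← biprod.lift_fst (D.Δ D.G) (D.φ N₀), ← Category.assoc (s ≫ κ)]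
      exact (congrArg (· ≫ biprod.fst) h).trans zero_comp
    · rw [← biprod.lift_snd (D.Δ D.G) (D.φ N₀), ← Category.assoc (s ≫ κ)]
      exact (congrArg (· ≫ biprod.snd) h).trans zero_comp
  have hκφ : ∀ n, κ ≫ D.φ n = 0 := fun n => by
    refine hst n κ ?_ ?_
    · simpa using (hκ (𝟙 _)).1
    · simpa using (hκ (𝟙 _)).2
  let φ' : ∀ n, cokernel κ ⟶ F.obj (op n) := fun n => cokernel.desc κ (D.φ n) (hκφ n)
  have hq : ∀ n, cokernel.π κ ≫ φ' n = D.φ n := fun n => cokernel.π_desc _ _ _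
  have hGF : Coh.IsCoh (kernel k) :=
    QCoh.isCoh_kernel D.isCoh (isCoh_biprod (QCoh.isCoh_biproduct _ fun _ => D.isCoh) (hF.1 N₀)) _
  let D' : Data I F c a :=
    { G := cokernel κ
      isCoh := QCoh.isCoh_cokernel hGF.1 D.isCoh κ
      φ := φ'
      compat := fun {j n} h => by
        rw [← cancel_epi (cokernel.π κ), ← Category.assoc, hq, hq, D.compat]
      hcok := fun n b hb => by
        let d : cokernel (D.φ n) ⟶ cokernel (φ' n) := cokernel.desc _ (cokernel.π (φ' n)) (by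
          rw [← hq, Category.assoc, cokernel.condition, comp_zero])
        haveI : Epi d := epi_of_epi_fac (cokernel.π_desc (D.φ n) _ _)
        exact killIdeal_le_of_epi d (D.hcok n hb)
      hker := fun n T t ht b hb => by
        obtain ⟨T', π, hπ, g, hg⟩ := surjective_up_to_refinements_of_epi (cokernel.π κ) t
        haveI := hπ
        have hg0 : g ≫ D.φ n = 0 := by rw [← hq, ← Category.assoc, ← hg, Category.assoc, ht, comp_zero]
        have h := modJπ_natural (cokernel.π κ) (D.hker n g hg0 b hb)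
        rw [Category.assoc g, smulMod_naturality, ← Category.assoc, ← hg, Category.assoc π,
          Category.assoc π] at h
        rw [← cancel_epi π, comp_zero]
        exact h }
  refine ⟨D', cokernel.π κ, inferInstance, N₀, hq, ?_, fun {T} t hta htφ => ?_⟩
  · have hKq : Coh.IsQCoh (kernel (cokernel.π κ)) :=
      QCoh.isQCoh_kernel D.isCoh.1 D'.isCoh.1 _
    refine hgen _ hKq fun i => ?_
    obtain ⟨T', π, hπ, s, hs⟩ := refine_image κ (kernel.ι (cokernel.π κ)) (kernel.condition _)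
    haveI := hπ
    rw [← cancel_mono (kernel.ι (cokernel.π κ)), zero_comp, smulMod_naturality, ← cancel_epi π, comp_zero,
      ← Category.assoc, hs, (hκ s).1 i]
  · obtain ⟨T', π, hπ, g, hg⟩ := surjective_up_to_refinements_of_epi (cokernel.π κ) t
    haveI := hπ
    have hg0 : g ≫ D.φ N₀ = 0 := by
      rw [← hq, ← Category.assoc, ← hg, Category.assoc, htφ, comp_zero]
    have hgi : ∀ i, g ≫ Formal.smulMod A D.G (a i) = 0 := fun i => by
      have h0 : (g ≫ Formal.smulMod A D.G (a i)) ≫ cokernel.π κ = 0 := by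
        rw [Category.assoc, smulMod_naturality, ← Category.assoc, ← hg, Category.assoc]
        exact (congrArg (π ≫ ·) (hta i)).trans comp_zero
      obtain ⟨T₁, π₁, hπ₁, s, hs⟩ := refine_image κ _ h0
      haveI := hπ₁
      rw [← cancel_epi π₁, comp_zero]
      refine hT (N₀ + 1) hc' _ (fun l => ?_) ?_
      · rw [hs]; exact (hκ s).1 l
      · rw [Category.assoc π₁, D.hker N₀ g hg0 (a i) (ha i), comp_zero]
    have hg1 : g ≫ k = 0 := by
      refine biprod.hom_ext _ _ ?_ ?_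
      · simpa [k] using D.Δ_eq_zero.2 hgi
      · simpa [k] using hg0
    rw [← cancel_epi π, hg, comp_zero, ← kernel.lift_ι k g hg1, Category.assoc, cokernel.condition,
      comp_zero]

end Data

end Groth.Agent.ExistEasy
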