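import Groth.Agent.ExistEasy.TwoIdeal

/-!
# Existence with an auxiliary ideal sheaf
-/

universe u

set_option backward.isDefEq.respectTransparency false
set_option backward.isDefEq.respectTransparency.types false

open CategoryTheory CategoryTheory.Limits AlgebraicGeometry TopologicalSpace Opposite

noncomputable section

namespace Groth.Agent.ExistEasy

open Groth.Agent Groth.Agent.FFun

attribute [local instance] QCoh.hasFiniteBiproducts

variable {A : Type u} [CommRing A] {X : Scheme.{u}} [X.Over (Spec (CommRingCat.of A))]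

theorem killed_of_le {K K' : X.IdealSheafData} (h : ∀ U, K'.ideal U ≤ K.ideal U) {M : X.Modules}
    (hM : ClSub.KilledByIdeal K M) : ClSub.KilledByIdeal K' M := fun U a ha m => hM U a (h U ha) m

theorem trJ_mapJ {J J' : Ideal A} (h : J' ≤ J) {M N : X.Modules} (f : M ⟶ N) :
    mapJ J' f ≫ trJ h N = trJ h M ≫ mapJ J f := by
  rw [← cancel_epi (modJπ J' M), ← Category.assoc, π_mapJ, Category.assoc, π_descJ, π_descJ_assoc, π_mapJ]

theorem mapJ_comp (J : Ideal A) {M N P : X.Modules} (f : M ⟶ N) (g : N ⟶ P) :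
    mapJ J f ≫ mapJ J g = mapJ J (f ≫ g) := by
  rw [← cancel_epi (modJπ J M), ← Category.assoc, π_mapJ, Category.assoc, π_mapJ, π_mapJ, Category.assoc]

theorem completion_map_le (I : Ideal A) (M : X.Modules) {j n : ℕ} (h : j ≤ n) :
    ARSys.tr (Formal.completion I M) h = trJ (Ideal.pow_le_pow_right (Nat.succ_le_succ h)) M := by
  induction n, h using Nat.le_induction with
  | base =>
    rw [Algz7.tr_refl]
    refine ((cancel_epi (modJπ (I ^ (j + 1)) M)).1 ?_).symm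
    rw [π_descJ]
    exact (Category.comp_id _).symm
  | succ k h ih =>
    rw [← Algz7.tr_trans _ h (Nat.le_succ k), ih]
    show (Formal.completion I M).map (homOfLE (Nat.le_succ k)).op ≫ _ = _
    rw [Algz7.completion_map_succ]
    refine (cancel_epi (modJπ (I ^ (k + 1 + 1)) M)).1 ?_
    show modJπ (I ^ (k + 1 + 1)) M ≫ Formal.modPowTrans I (k + 1) M ≫ trJ _ M = _
    rw [← Category.assoc, show modJπ (I ^ (k + 1 + 1)) M ≫ Formal.modPowTrans I (k + 1) M =
      modJπ (I ^ (k + 1)) M from Formal.modPowπ_trans I (k + 1) M, π_descJ, π_descJ]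

theorem isCoh_completion (I : Ideal A) [IsNoetherian X] {M : X.Modules} (hM : Coh.IsCoh M) (n : ℕ) :
    Coh.IsCoh (modJ (I ^ (n + 1)) M) := isCoh_modJ _ hM

theorem completion_nat {I : Ideal A} {F : ℕᵒᵖ ⥤ X.Modules} {M : X.Modules}
    (f : F ⟶ Formal.completion I M) {j n : ℕ} (h : j ≤ n) :
    f.app (op n) ≫ trJ (Ideal.pow_le_pow_right (Nat.succ_le_succ h)) M = ARSys.tr F h ≫ f.app (op j) := by
  rw [← completion_map_le I M h]
  exact (f.naturality (homOfLE h).op).symm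

/-- Existence, from the case of modules killed by powers of an auxiliary ideal sheaf. -/
theorem exists_algebraization_two [IsNoetherian X] {I : Ideal A} (K : X.IdealSheafData)
    {F : ℕᵒᵖ ⥤ X.Modules} (hF : Formal.IsCohFormal I F)
    (h₁ : ∀ e : ℕ,
      (∀ (M N : X.Modules), Coh.IsCoh M → Coh.IsCoh N → ClSub.KilledByIdeal (K ^ e) M →
        ClSub.KilledByIdeal (K ^ e) N → ∀ ψ : Formal.completion I M ⟶ Formal.completion I N,
          ∃! φ : M ⟶ N, ∀ n : ℕ, Formal.modPowπ I (n + 1) M ≫ ψ.app (op n) = φ ≫ Formal.modPowπ I (n + 1) N) ∧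
      (∀ G : ℕᵒᵖ ⥤ X.Modules, Formal.IsCohFormal I G → (∀ n : ℕ, ClSub.KilledByIdeal (K ^ e) (G.obj (op n))) →
        ∃ M : X.Modules, Coh.IsCoh M ∧ ClSub.KilledByIdeal (K ^ e) M ∧ Nonempty (Formal.completion I M ≅ G)))
    {H : X.Modules} (hH : Coh.IsCoh H) (α : F ⟶ Formal.completion I H) (t : ℕ)
    (hker : ∀ n, ClSub.KilledByIdeal (K ^ t) (kernel (α.app (op n))))
    (hcok : ∀ n, ClSub.KilledByIdeal (K ^ t) (cokernel (α.app (op n)))) :
    ∃ M : X.Modules, Coh.IsCoh M ∧ Nonempty (Formal.completion I M ≅ F) := by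
  let ψ : ∀ n, F.obj (op n) ⟶ modJ (I ^ (n + 1)) H := fun n => α.app (op n)
  obtain ⟨e, hinj⟩ := exists_proInjective hF hH ψ K t hker hcok
  -- the part of `F` modulo `Kᵉ`
  let G : ℕᵒᵖ ⥤ X.Modules := F ⋙ TK (K ^ e)
  let η : F ⟶ G :=
    { app := fun n => ηK (K ^ e) (F.obj n)
      naturality := fun _ _ f => (ηK_natural (K ^ e) (F.map f)).symm }
  have hGcoh : ∀ n, Coh.IsCoh (G.obj (op n)) := fun n => isCoh_TK _ (hF.1 n)
  have hG : Formal.IsCohFormal I G := isCohFormal_quotient hF η (fun n => epi_ηK _ (hF.1 n).1) hGcoh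
    fun n {T} x hx => by
      let τ := ARSys.tr F (Nat.le_succ n)
      let u := kernel.ι (ηK (K ^ e) (F.obj (op (n + 1)))) ≫ τ
      have hk : Coh.IsQCoh (kernel (ηK (K ^ e) (F.obj (op (n + 1))))) :=
        QCoh.isQCoh_kernel (hF.1 _).1 (isQCoh_TK _ (hF.1 _).1) _
      have hu : kernel.ι (ηK (K ^ e) (F.obj (op n))) ≫ cokernel.π u = 0 := by
        refine hom_eq_zero_of_cover (QCoh.isQCoh_kernel (hF.1 _).1 (isQCoh_TK _ (hF.1 _).1) _)
          (QCoh.isQCoh_cokernel hk (hF.1 n).1 u) _ (fun U : X.affineOpens => U.1) (fun U => U.2)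
          (fun y => by obtain ⟨V, hV, hy, -⟩ := exists_isAffineOpen_mem_and_subset (x := y) (U := ⊤) trivial
                       exact ⟨⟨V, hV⟩, hy⟩) fun U w => ?_
        obtain ⟨m, hm⟩ : ∃ m, (kernel.ι (ηK (K ^ e) (F.obj (op n)))).app U.1 w = m := ⟨_, rfl⟩
        show (cokernel.π u).app U.1 ((kernel.ι (ηK (K ^ e) (F.obj (op n)))).app U.1 w) = 0
        rw [hm]
        have h1 : (ηK (K ^ e) (F.obj (op n))).app U.1 m = 0 := by
          rw [← hm]
          exact congr(($(kernel.condition (ηK (K ^ e) (F.obj (op n))))).app U.1 w)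
        have h2 := ((ηK_app (K ^ e) (hF.1 n).1 U).2 m).1 h1
        refine Submodule.smul_induction_on h2 (fun b hb z _ => ?_) fun z z' hz hz' => by
          rw [map_add, hz, hz', add_zero]
        haveI := Algz7.epi_tr hF (Nat.le_succ n)
        obtain ⟨z', rfl⟩ := QCoh.app_surjective_of_epi (hF.1 (n + 1)).1 (hF.1 n).1 τ U.2 z
        obtain ⟨w', hw'⟩ := QCoh.exists_kernel_lift (ηK (K ^ e) (F.obj (op (n + 1)))) U.1 (b • z')
          (((ηK_app (K ^ e) (hF.1 _).1 U).2 _).2 (Submodule.smul_mem_smul hb Submodule.mem_top))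
        rw [← Scheme.Modules.Hom.app_smul, ← hw']
        exact congr(($(cokernel.condition u)).app U.1 w')
      have hx' : x ≫ cokernel.π u = 0 := by
        rw [← kernel.lift_ι (η.app (op n)) x hx, Category.assoc]
        exact (congrArg (kernel.lift _ x hx ≫ ·) hu).trans comp_zero
      obtain ⟨T', p, hp, y, hy⟩ := refine_image u x hx'
      refine ⟨T', p, hp, y ≫ kernel.ι _, ?_, hy.trans (Category.assoc _ _ _).symm⟩
      exact (Category.assoc _ _ _).trans ((congrArg (y ≫ ·) (kernel.condition _)).trans comp_zero)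
  obtain ⟨M, hM, hMK, ⟨β⟩⟩ := (h₁ e).2 G hG fun n => killed_TK _ (hF.1 n).1
  -- the joint map
  let P := H ⊞ M
  have hP : Coh.IsCoh P := isCoh_biprod hH hM
  let μ : F ⟶ Formal.completion I M := η ≫ β.inv
  let μ' : ∀ n, F.obj (op n) ⟶ modJ (I ^ (n + 1)) M := fun n => μ.app (op n)
  let π : ∀ n, F.obj (op n) ⟶ modJ (I ^ (n + 1)) P := fun n =>
    ψ n ≫ mapJ (I ^ (n + 1)) biprod.inl + μ' n ≫ mapJ (I ^ (n + 1)) biprod.inr
  have hπ : ∀ {j n : ℕ} (h : j ≤ n),
      π n ≫ trJ (Ideal.pow_le_pow_right (Nat.succ_le_succ h)) P = ARSys.tr F h ≫ π j := fun {j n} h => by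
    simp only [π, Preadditive.add_comp, Preadditive.comp_add]
    rw [Category.assoc, Category.assoc, trJ_mapJ, trJ_mapJ, ← Category.assoc (ψ n), ← Category.assoc (μ' n), completion_nat α h, completion_nat μ h,
      Category.assoc, Category.assoc]
  have hdec : ∀ n, mapJ (I ^ (n + 1)) (biprod.fst : P ⟶ H) ≫ mapJ (I ^ (n + 1)) biprod.inl +
      mapJ (I ^ (n + 1)) (biprod.snd : P ⟶ M) ≫ mapJ (I ^ (n + 1)) biprod.inr = 𝟙 _ := fun n => by
    rw [← cancel_epi (modJπ (I ^ (n + 1)) P), Category.comp_id, mapJ_comp, mapJ_comp, Preadditive.comp_add,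
      π_mapJ, π_mapJ, ← Preadditive.add_comp, biprod.total, Category.id_comp]
  have hfst : ∀ n, π n ≫ mapJ (I ^ (n + 1)) biprod.fst = ψ n := fun n => by
    simp only [π, Preadditive.add_comp, Category.assoc, mapJ_comp, biprod.inl_fst, biprod.inr_fst]
    have h0 : mapJ (I ^ (n + 1)) (0 : M ⟶ H) = 0 := by
      rw [← cancel_epi (modJπ (I ^ (n + 1)) M), π_mapJ, zero_comp, comp_zero]
    have h1 : mapJ (I ^ (n + 1)) (𝟙 H) = 𝟙 _ := by
      rw [← cancel_epi (modJπ (I ^ (n + 1)) H), π_mapJ, Category.id_comp, Category.comp_id]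
    rw [h0, h1, comp_zero, add_zero, Category.comp_id]
  have hsnd : ∀ n, π n ≫ mapJ (I ^ (n + 1)) biprod.snd = μ' n := fun n => by
    simp only [π, Preadditive.add_comp, Category.assoc, mapJ_comp, biprod.inl_snd, biprod.inr_snd]
    have h0 : mapJ (I ^ (n + 1)) (0 : H ⟶ M) = 0 := by
      rw [← cancel_epi (modJπ (I ^ (n + 1)) H), π_mapJ, zero_comp, comp_zero]
    have h1 : mapJ (I ^ (n + 1)) (𝟙 M) = 𝟙 _ := by
      rw [← cancel_epi (modJπ (I ^ (n + 1)) M), π_mapJ, Category.id_comp, Category.comp_id]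
    rw [h0, h1, comp_zero, zero_add, Category.comp_id]
  -- the cokernels
  have hstep : ∀ n, π (n + 1) ≫ trJ (Ideal.pow_le_pow_right (Nat.le_succ (n + 1))) P ≫ cokernel.π (π n) = 0 :=
    fun n => by rw [← Category.assoc, hπ (Nat.le_succ n), Category.assoc, cokernel.condition, comp_zero]
  let Q : ℕᵒᵖ ⥤ X.Modules := Functor.ofOpSequence (X := fun n => cokernel (π n))
    fun n => cokernel.desc (π (n + 1)) (trJ (Ideal.pow_le_pow_right (Nat.le_succ (n + 1))) P ≫ cokernel.π (π n)) (hstep n)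
  let q : Formal.completion I P ⟶ Q := NatTrans.ofOpSequence (fun n => cokernel.π (π n)) fun n => by
    rw [Algz7.completion_map_succ, Functor.ofOpSequence_map_homOfLE_succ, cokernel.π_desc]
    rfl
  have hQcoh : ∀ n, Coh.IsCoh (Q.obj (op n)) := fun n =>
    QCoh.isCoh_cokernel (hF.1 n).1 (isCoh_modJ _ hP) _
  have hQ : Formal.IsCohFormal I Q := isCohFormal_quotient (Algz7.isCohFormal_completion I hP) q
    (fun n => (inferInstance : Epi (cokernel.π (π n)))) hQcoh fun n {T} x hx => by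
      obtain ⟨T', p, hp, y, hy⟩ := refine_image (π n) x hx
      haveI := hp
      haveI := Algz7.epi_tr hF (Nat.le_succ n)
      obtain ⟨T'', p', hp', y', hy'⟩ := surjective_up_to_refinements_of_epi (ARSys.tr F (Nat.le_succ n)) y
      haveI := hp'
      refine ⟨T'', p' ≫ p, epi_comp _ _, y' ≫ π (n + 1), ?_, ?_⟩
      · exact (Category.assoc _ _ _).trans ((congrArg (y' ≫ ·) (cokernel.condition _)).trans comp_zero)
      · rw [completion_map_le, Category.assoc y', hπ (Nat.le_succ n), ← Category.assoc y', ← hy',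
          Category.assoc, hy, Category.assoc]
  let d := t + e
  have hd : ∀ U : X.affineOpens, (K ^ d).ideal U = (K ^ t).ideal U * (K ^ e).ideal U := fun U => by
    rw [Scheme.IdealSheafData.ideal_pow, Scheme.IdealSheafData.ideal_pow, Scheme.IdealSheafData.ideal_pow,
      Pi.pow_apply, Pi.pow_apply, Pi.pow_apply, ← pow_add]
  have hQK : ∀ n, ClSub.KilledByIdeal (K ^ d) (Q.obj (op n)) := fun n U b hb z => by
    obtain ⟨y, rfl⟩ := QCoh.app_surjective_of_epi (isCoh_modJ _ hP).1 (hQcoh n).1 (cokernel.π (π n)) U.2 z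
    show b • (cokernel.π (π n)).app U.1 y = 0
    rw [← Scheme.Modules.Hom.app_smul]
    rw [hd] at hb
    refine Submodule.mul_induction_on hb (fun a ha c hc => ?_) fun a a' h h' => by
      rw [add_smul, map_add, h, h', add_zero]
    have hy : y = (mapJ (I ^ (n + 1)) biprod.inl).app U.1 ((mapJ (I ^ (n + 1)) biprod.fst).app U.1 y) +
        (mapJ (I ^ (n + 1)) biprod.inr).app U.1 ((mapJ (I ^ (n + 1)) biprod.snd).app U.1 y) :=
      (congr(($(hdec n)).app U.1 y)).symm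
    set h := (mapJ (I ^ (n + 1)) (biprod.fst : P ⟶ H)).app U.1 y
    set m := (mapJ (I ^ (n + 1)) (biprod.snd : P ⟶ M)).app U.1 y
    haveI : Epi (modJπ (I ^ (n + 1)) M) := inferInstance
    have hmK : ∀ z : Γ(modJ (I ^ (n + 1)) M, U.1), c • z = 0 := fun z => by
      obtain ⟨z₀, rfl⟩ := QCoh.app_surjective_of_epi hM.1 (isCoh_modJ _ hM).1 (modJπ (I ^ (n + 1)) M) U.2 z
      rw [← Scheme.Modules.Hom.app_smul, hMK U c hc, map_zero]
    obtain ⟨x, hx⟩ := exists_app_of_cokernel (hF.1 n).1 (isCoh_modJ _ hH).1 (ψ n) U.2 (a • h) (by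
      rw [Scheme.Modules.Hom.app_smul]
      exact hcok n U a ha _)
    have e1 : (π n).app U.1 (c • x) = (mapJ (I ^ (n + 1)) biprod.inl).app U.1 ((a * c) • h) := by
      show (mapJ (I ^ (n + 1)) biprod.inl).app U.1 ((ψ n).app U.1 (c • x)) +
        (mapJ (I ^ (n + 1)) biprod.inr).app U.1 ((μ' n).app U.1 (c • x)) = _
      rw [Scheme.Modules.Hom.app_smul (μ' n), hmK, map_zero, add_zero, Scheme.Modules.Hom.app_smul (ψ n), hx,
        smul_smul, mul_comm c a]
    have e2 : (a * c) • (mapJ (I ^ (n + 1)) (biprod.inr : M ⟶ P)).app U.1 m = 0 := by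
      rw [← Scheme.Modules.Hom.app_smul (mapJ (I ^ (n + 1)) (biprod.inr : M ⟶ P)), mul_smul, hmK m, smul_zero, map_zero]
    rw [hy, smul_add, e2, add_zero, ← Scheme.Modules.Hom.app_smul (mapJ (I ^ (n + 1)) (biprod.inl : H ⟶ P)), ← e1]
    exact congr(($(cokernel.condition (π n))).app U.1 (c • x))
  obtain ⟨Q', hQ', hQ'K, ⟨β'⟩⟩ := (h₁ d).2 Q hQ hQK
  let P' := (TK (K ^ d)).obj P
  have hkilled : ∀ n, ClSub.KilledByIdeal (K ^ d) (modJ (I ^ (n + 1)) Q') := fun n U b hb z => by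
    obtain ⟨z₀, rfl⟩ := QCoh.app_surjective_of_epi hQ'.1 (isCoh_modJ _ hQ').1 (modJπ (I ^ (n + 1)) Q') U.2 z
    rw [← Scheme.Modules.Hom.app_smul, hQ'K U b hb, map_zero]
  let c' : ∀ n, modJ (I ^ (n + 1)) P ⟶ modJ (I ^ (n + 1)) Q' := fun n => (q ≫ β'.inv).app (op n)
  haveI := epi_ηK (K ^ d) hP.1
  have hc0 : ∀ n, kernel.ι (ηK (K ^ d) P) ≫ modJπ (I ^ (n + 1)) P ≫ c' n = 0 := fun n => by
    refine hom_eq_zero_of_cover (QCoh.isQCoh_kernel hP.1 (isQCoh_TK _ hP.1) _) (isCoh_modJ _ hQ').1 _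
      (fun U : X.affineOpens => U.1) (fun U => U.2)
      (fun y => by obtain ⟨V, hV, hy, -⟩ := exists_isAffineOpen_mem_and_subset (x := y) (U := ⊤) trivial
                   exact ⟨⟨V, hV⟩, hy⟩) fun U w => ?_
    obtain ⟨m, hm⟩ : ∃ m, (kernel.ι (ηK (K ^ d) P)).app U.1 w = m := ⟨_, rfl⟩
    show (modJπ (I ^ (n + 1)) P ≫ c' n).app U.1 ((kernel.ι (ηK (K ^ d) P)).app U.1 w) = 0
    rw [hm]
    have h1 : (ηK (K ^ d) P).app U.1 m = 0 := by
      rw [← hm]
      exact congr(($(kernel.condition (ηK (K ^ d) P))).app U.1 w)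
    refine Submodule.smul_induction_on (((ηK_app (K ^ d) hP.1 U).2 m).1 h1) (fun b hb z _ => ?_)
      fun z z' hz hz' => by rw [map_add, hz, hz', add_zero]
    rw [Scheme.Modules.Hom.app_smul]
    exact hkilled n U b hb _
  let δ : ∀ n, modJ (I ^ (n + 1)) P' ⟶ modJ (I ^ (n + 1)) Q' := fun n =>
    descJ (Abelian.epiDesc (ηK (K ^ d) P) _ (hc0 n)) (le_killIdeal_modJ _ Q')
  have hδ : ∀ n, mapJ (I ^ (n + 1)) (ηK (K ^ d) P) ≫ δ n = c' n := fun n => by
    rw [← cancel_epi (modJπ (I ^ (n + 1)) P), ← Category.assoc, π_mapJ, Category.assoc, π_descJ,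
      Abelian.comp_epiDesc]
  let Δ : Formal.completion I P' ⟶ Formal.completion I Q' := NatTrans.ofOpSequence δ fun n => by
    show ARSys.tr (Formal.completion I P') (Nat.le_succ n) ≫ δ n =
      δ (n + 1) ≫ ARSys.tr (Formal.completion I Q') (Nat.le_succ n)
    haveI : Epi (mapJ (I ^ (n + 1 + 1)) (ηK (K ^ d) P)) := by
      haveI : Epi (modJπ (I ^ (n + 1 + 1)) P ≫ mapJ (I ^ (n + 1 + 1)) (ηK (K ^ d) P)) := by
        rw [π_mapJ]; exact epi_comp _ _
      exact epi_of_epi (modJπ (I ^ (n + 1 + 1)) P) _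
    rw [← cancel_epi (mapJ (I ^ (n + 1 + 1)) (ηK (K ^ d) P)), ← Category.assoc (mapJ _ _) (δ (n + 1)), hδ,
      completion_map_le, completion_map_le, ← Category.assoc, trJ_mapJ, Category.assoc, hδ]
    show _ = (q ≫ β'.inv).app (op (n + 1)) ≫ _
    rw [← completion_map_le I Q' (Nat.le_succ n), ← completion_map_le I P (Nat.le_succ n)]
    exact (q ≫ β'.inv).naturality (homOfLE (Nat.le_succ n)).op
  obtain ⟨φ₀, hφ₀, -⟩ := (h₁ d).1 P' Q' (isCoh_TK _ hP) hQ' (killed_TK _ hP.1) hQ'K Δ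
  let φ : P ⟶ Q' := ηK (K ^ d) P ≫ φ₀
  have hφ : ∀ n, mapJ (I ^ (n + 1)) φ = cokernel.π (π n) ≫ β'.inv.app (op n) := fun n => by
    rw [show cokernel.π (π n) ≫ β'.inv.app (op n) = c' n from rfl, ← hδ, ← mapJ_comp,
      show mapJ (I ^ (n + 1)) φ₀ = δ n from (cancel_epi (modJπ (I ^ (n + 1)) P')).1
        ((π_mapJ _ φ₀).trans (hφ₀ n).symm)]
  have hzero : ∀ n, π n ≫ mapJ (I ^ (n + 1)) φ = 0 := fun n => by
    rw [hφ, ← Category.assoc, cokernel.condition, zero_comp]
  have hex : ∀ n {T : X.Modules} (s : T ⟶ modJ (I ^ (n + 1)) P), s ≫ mapJ (I ^ (n + 1)) φ = 0 →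
      ∃ (T' : X.Modules) (p : T' ⟶ T) (_ : Epi p) (x : T' ⟶ F.obj (op n)), p ≫ s = x ≫ π n :=
    fun n T s hs => by
      refine refine_image (π n) s ?_
      haveI : IsIso (β'.inv.app (op n)) := inferInstance
      rw [hφ, ← Category.assoc] at hs
      exact (cancel_mono (β'.inv.app (op n))).1 (hs.trans zero_comp.symm)
  have hinj' : ∀ j, ∃ (N : ℕ) (h : j ≤ N), ∀ {T : X.Modules} (s : T ⟶ F.obj (op N)),
      s ≫ π N = 0 → s ≫ ARSys.tr F h = 0 := fun j => by
    obtain ⟨N, h, hN⟩ := hinj j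
    refine ⟨N, h, fun {T} s hs => hN s ?_ ?_⟩
    · rw [← hfst N, ← Category.assoc, hs, zero_comp]
    · have h1 : (s ≫ η.app (op N)) ≫ β.inv.app (op N) = 0 := by
        rw [Category.assoc]
        show s ≫ μ' N = 0
        rw [← hsnd N, ← Category.assoc, hs, zero_comp]
      exact (cancel_mono (β.inv.app (op N))).1 (h1.trans zero_comp.symm)
  exact ⟨kernel φ, QCoh.isCoh_kernel hP hQ' φ,
    exists_iso_completion_kernel hF hP hQ' φ π hπ hex hzero hinj'⟩

end Groth.Agent.ExistEasy
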