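import Groth.Agent.ExistEasy.KernelCompletion
import Groth.Agent.QCoh.ArtinRees
import Groth.Prelude.Def_Formal2

/-!
# Artin–Rees with an auxiliary ideal sheaf
-/

universe u

set_option backward.isDefEq.respectTransparency false
set_option backward.isDefEq.respectTransparency.types false

open CategoryTheory CategoryTheory.Limits AlgebraicGeometry TopologicalSpace Opposite

noncomputable section

namespace Groth.Agent.ExistEasy

open Groth.Agent Groth.Agent.FFun

attribute [local instance] QCoh.hasFiniteBiproducts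

/-- Kernels of maps into `H / Iᴺ H` with small kernels and cokernels, cut down by an auxiliary ideal,
are deep. -/
theorem exists_deep_two {R : Type u} [CommRing R] [IsNoetherianRing R] {H : Type u} [AddCommGroup H]
    [Module R H] [Module.Finite R H] (I K : Ideal R) (t : ℕ) :
    ∃ k c : ℕ, ∀ (N : ℕ) (F : Type u) [AddCommGroup F] [Module R F]
      (ψ : F →ₗ[R] H ⧸ (I ^ (N + 1) • ⊤ : Submodule R H)),
      (∀ x, ψ x = 0 → ∀ a ∈ K ^ t, a • x = 0) →
      (∀ (y : H ⧸ (I ^ (N + 1) • ⊤ : Submodule R H)), ∀ a ∈ K ^ t, a • y ∈ LinearMap.range ψ) →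
      ∀ x ∈ K ^ k • (⊤ : Submodule R F), ψ x = 0 → x ∈ I ^ (N + 1 - c) • (⊤ : Submodule R F) := by
  classical
  obtain ⟨r, a, ha⟩ := Submodule.fg_iff_exists_fin_generating_family.1 (IsNoetherian.noetherian (K ^ t))
  have hat : ∀ l, a l ∈ K ^ t := fun l => ha.le (Submodule.subset_span ⟨l, rfl⟩)
  let H' : Submodule R H := K ^ t • ⊤
  let θ : (Fin r → H') →ₗ[R] H := ∑ l, a l • (H'.subtype.comp (LinearMap.proj l))
  have hθ : ∀ v, θ v = ∑ l, a l • (v l : H) := fun v => by simp [θ]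
  obtain ⟨c₂, hc₂⟩ := Ideal.exists_pow_inf_eq_pow_smul K (LinearMap.ker θ)
  let j := c₂ + t
  let S : Submodule R H := Submodule.map θ (K ^ j • ⊤)
  obtain ⟨c₁, hc₁⟩ := Ideal.exists_pow_inf_eq_pow_smul I S
  refine ⟨j + (t + t), c₁, fun N F _ _ ψ hker hcok x hx hψx => ?_⟩
  rcases lt_or_ge (N + 1) c₁ with hlt | hN
  · rw [show N + 1 - c₁ = 0 by omega, pow_zero, one_smul]
    exact Submodule.mem_top
  have hrange : ∀ g : H', ∃ x, ψ x = Submodule.Quotient.mk (g : H) := fun g => by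
    refine Submodule.smul_induction_on g.2 (fun b hb y _ => ?_) ?_
    · exact hcok (Submodule.Quotient.mk y) b hb
    · rintro _ _ ⟨x, hx⟩ ⟨x', hx'⟩
      exact ⟨x + x', by rw [map_add, hx, hx']; rfl⟩
  choose lift hlift using hrange
  have huniq : ∀ l (g : H') (x : F), ψ x = Submodule.Quotient.mk (g : H) → a l • x = a l • lift g :=
    fun l g x hx => by
      rw [← sub_eq_zero, ← smul_sub]
      exact hker _ (by rw [map_sub, hx, hlift, sub_self]) _ (hat l)
  let γl : Fin r → (H' →ₗ[R] F) := fun l =>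
    { toFun := fun g => a l • lift g
      map_add' := fun g g' => by
        rw [← huniq l (g + g') (lift g + lift g') (by rw [map_add, hlift, hlift]; rfl), smul_add]
      map_smul' := fun s g => by
        rw [← huniq l (s • g) (s • lift g) (by rw [map_smul, hlift]; rfl), smul_comm]; rfl }
  let γ : (Fin r → H') →ₗ[R] F := ∑ l, (γl l).comp (LinearMap.proj l)
  have hγθ : ∀ v, ψ (γ v) = Submodule.Quotient.mk (θ v) := fun v => by
    have h2 : Submodule.Quotient.mk (θ v) = Submodule.mkQ (I ^ (N + 1) • ⊤ : Submodule R H) (θ v) := rfl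
    rw [h2, hθ, map_sum]
    simp only [γ, γl, LinearMap.sum_apply, map_sum, LinearMap.comp_apply, LinearMap.proj_apply]
    exact Finset.sum_congr rfl fun l _ => by
      show ψ (a l • lift (v l)) = _
      rw [map_smul, hlift, map_smul]; rfl
  -- the image of `γ` contains `K^(j+2t) F`
  have hcover : K ^ (j + (t + t)) • (⊤ : Submodule R F) ≤ Submodule.map γ (K ^ j • ⊤) := by
    rw [pow_add, Submodule.mul_smul]
    refine Submodule.smul_le.2 fun b' hb' y hy => ?_
    refine Submodule.smul_induction_on hy (fun b hb w _ => ?_) fun y y' hy hy' => by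
      rw [smul_add]; exact add_mem hy hy'
    rw [pow_add] at hb
    refine Submodule.mul_induction_on hb (fun p hp q hq => ?_) fun p q hp hq => by
      rw [add_smul, smul_add]; exact add_mem hp hq
    rw [← ha] at hp
    refine Submodule.span_induction (p := fun p _ => b' • (p * q) • w ∈ Submodule.map γ (K ^ j • ⊤))
      ?_ ?_ ?_ ?_ hp
    · rintro _ ⟨l, rfl⟩
      obtain ⟨h, hh⟩ := Submodule.Quotient.mk_surjective _ (ψ w)
      let g : H' := ⟨q • h, Submodule.smul_mem_smul hq Submodule.mem_top⟩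
      refine ⟨b' • Pi.single l g, Submodule.smul_mem_smul hb' Submodule.mem_top, ?_⟩
      rw [map_smul, mul_smul]
      congr 1
      have e : γ (Pi.single l g) = γl l g := by
        simp only [γ, LinearMap.sum_apply, LinearMap.comp_apply, LinearMap.proj_apply]
        rw [Finset.sum_eq_single l (fun i _ hi => by rw [Pi.single_eq_of_ne hi, map_zero])
          (fun h => absurd (Finset.mem_univ l) h), Pi.single_eq_same]
      rw [e]
      exact (huniq l g (q • w) (by rw [map_smul, ← hh]; rfl)).symm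
    · simp only [zero_mul, zero_smul, smul_zero]; exact zero_mem _
    · intro p p' _ _ h h'
      rw [add_mul, add_smul, smul_add]; exact add_mem h h'
    · intro s p _ h
      rw [smul_eq_mul, mul_assoc, mul_smul, smul_comm]; exact Submodule.smul_mem _ s h
  obtain ⟨v, hv, rfl⟩ := hcover hx
  rw [hγθ, Submodule.Quotient.mk_eq_zero] at hψx
  have h1 : θ v ∈ I ^ (N + 1) • (⊤ : Submodule R H) ⊓ S := ⟨hψx, ⟨v, hv, rfl⟩⟩
  rw [hc₁ (N + 1) hN] at h1
  have h2 : θ v ∈ I ^ (N + 1 - c₁) • S := Submodule.smul_mono le_rfl inf_le_right h1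
  rw [← Submodule.map_smul''] at h2
  obtain ⟨v₁, hv₁, hvv⟩ := h2
  have hv₁j : v₁ ∈ K ^ j • (⊤ : Submodule R (Fin r → H')) := Submodule.smul_le_right hv₁
  have h3 : v - v₁ ∈ K ^ j • (⊤ : Submodule R (Fin r → H')) ⊓ LinearMap.ker θ :=
    ⟨sub_mem hv hv₁j, by rw [SetLike.mem_coe, LinearMap.mem_ker, map_sub, hvv, sub_self]⟩
  rw [hc₂ j (Nat.le_add_right _ _), show j - c₂ = t from Nat.add_sub_cancel_left _ _] at h3
  have h4 : γ (v - v₁) = 0 := by
    refine Submodule.smul_induction_on h3 (fun b hb w hw => ?_) fun y y' hy hy' => by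
      rw [map_add, hy, hy', add_zero]
    rw [map_smul]
    refine hker _ ?_ b hb
    rw [hγθ, LinearMap.mem_ker.1 hw.2]
    rfl
  rw [map_sub, sub_eq_zero] at h4
  rw [h4]
  have h5 : γ v₁ ∈ Submodule.map γ (I ^ (N + 1 - c₁) • (K ^ j • ⊤)) := ⟨v₁, hv₁, rfl⟩
  rw [Submodule.map_smul''] at h5
  exact Submodule.smul_mono le_rfl le_top h5

variable {A : Type u} [CommRing A] {X : Scheme.{u}} [X.Over (Spec (CommRingCat.of A))]

/-- The quotient by an ideal sheaf. -/
abbrev TK (K : X.IdealSheafData) : X.Modules ⥤ X.Modules :=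
  Scheme.Modules.pullback K.subschemeι ⋙ Scheme.Modules.pushforward K.subschemeι

/-- The projection. -/
abbrev ηK (K : X.IdealSheafData) (M : X.Modules) : M ⟶ (TK K).obj M :=
  (Scheme.Modules.pullbackPushforwardAdjunction K.subschemeι).unit.app M

theorem ηK_natural (K : X.IdealSheafData) {M N : X.Modules} (f : M ⟶ N) :
    ηK K M ≫ (TK K).map f = f ≫ ηK K N :=
  ((Scheme.Modules.pullbackPushforwardAdjunction K.subschemeι).unit.naturality f).symm

theorem isQCoh_TK (K : X.IdealSheafData) {M : X.Modules} (hM : Coh.IsQCoh M) : Coh.IsQCoh ((TK K).obj M) :=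
  QCoh.isQCoh_pushforward K.subschemeι (QCoh.isQCoh_pullback K.subschemeι hM)

theorem ηK_app (K : X.IdealSheafData) {M : X.Modules} (hM : Coh.IsQCoh M) (U : X.affineOpens) :
    Function.Surjective ((ηK K M).app U.1) ∧
      ∀ m, (ηK K M).app U.1 m = 0 ↔ m ∈ K.ideal U • (⊤ : Submodule Γ(X, U.1) Γ(M, U.1)) := by
  obtain ⟨h1, h2⟩ := QCoh.unit_app_closed K.subschemeι hM U.2
  rw [Scheme.IdealSheafData.ker_subschemeι] at h2
  exact ⟨h1, h2⟩

theorem killed_TK (K : X.IdealSheafData) {M : X.Modules} (hM : Coh.IsQCoh M) :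
    ClSub.KilledByIdeal K ((TK K).obj M) := fun U a ha m => by
  obtain ⟨m₀, rfl⟩ := (ηK_app K hM U).1 m
  refine ((Scheme.Modules.Hom.app_smul (ηK K M) a m₀).symm).trans ?_
  exact ((ηK_app K hM U).2 _).2 (Submodule.smul_mem_smul ha Submodule.mem_top)

theorem epi_ηK (K : X.IdealSheafData) {M : X.Modules} (hM : Coh.IsQCoh M) : Epi (ηK K M) := by
  refine Abelian.epi_of_cokernel_π_eq_zero _ ?_
  refine hom_eq_zero_of_cover (isQCoh_TK K hM) (QCoh.isQCoh_cokernel hM (isQCoh_TK K hM) _) _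
    (fun U : X.affineOpens => U.1) (fun U => U.2)
    (fun x => by obtain ⟨V, hV, hx, -⟩ := exists_isAffineOpen_mem_and_subset (x := x) (U := ⊤) trivial
                 exact ⟨⟨V, hV⟩, hx⟩) fun U m => ?_
  obtain ⟨m₀, rfl⟩ := (ηK_app K hM U).1 m
  exact congr(($(cokernel.condition (ηK K M))).app U.1 m₀)

theorem isCoh_TK [IsNoetherian X] (K : X.IdealSheafData) {M : X.Modules} (hM : Coh.IsCoh M) :
    Coh.IsCoh ((TK K).obj M) := by
  haveI := epi_ηK K hM.1
  exact Algz7.isCoh_of_epi (ηK K M) hM (isQCoh_TK K hM.1)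

theorem exists_app_of_cokernel {M N : X.Modules} (hM : Coh.IsQCoh M) (hN : Coh.IsQCoh N) (f : M ⟶ N)
    {U : X.Opens} (hU : IsAffineOpen U) (y : Γ(N, U)) (hy : (cokernel.π f).app U y = 0) :
    ∃ x, f.app U x = y := by
  obtain ⟨z, hz⟩ := QCoh.exists_kernel_lift (cokernel.π f) U y hy
  obtain ⟨x, hx⟩ := QCoh.app_surjective_of_epi hM
    (QCoh.isQCoh_kernel hN (QCoh.isQCoh_cokernel hM hN f) _) (Abelian.factorThruImage f) hU z
  refine ⟨x, ?_⟩
  rw [← hz, ← hx]
  exact (congr(($(Abelian.image.fac f)).app U x)).symm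

theorem app_eq_zero_of_killed {M N : X.Modules} (f : M ⟶ N) {J : Ideal A} (hJ : J ≤ killIdeal N)
    {U : X.Opens} {m : Γ(M, U)} (hm : m ∈ J.map (φsec U) • (⊤ : Submodule Γ(X, U) Γ(M, U))) :
    f.app U m = 0 := by
  have h := π_app_eq_zero M J U hm
  have e : (modJπ J M ≫ descJ f hJ).app U m = f.app U m := by rw [π_descJ]
  rw [← e]
  exact (congrArg ((descJ f hJ).app U) h).trans (map_zero _)

/-- Kernels of maps into a completion, with kernels and cokernels killed by a power of `K`, cut down by a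
high power of `K`, are pro-zero. -/
theorem exists_proInjective [IsNoetherian X] {I : Ideal A} {F : ℕᵒᵖ ⥤ X.Modules}
    (hF : Formal.IsCohFormal I F) {H : X.Modules} (hH : Coh.IsCoh H)
    (ψ : ∀ n, F.obj (op n) ⟶ modJ (I ^ (n + 1)) H) (K : X.IdealSheafData) (t : ℕ)
    (hker : ∀ n, ClSub.KilledByIdeal (K ^ t) (kernel (ψ n)))
    (hcok : ∀ n, ClSub.KilledByIdeal (K ^ t) (cokernel (ψ n))) :
    ∃ e, ∀ j, ∃ (N : ℕ) (h : j ≤ N), ∀ {T : X.Modules} (x : T ⟶ F.obj (op N)), x ≫ ψ N = 0 →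
      x ≫ ηK (K ^ e) (F.obj (op N)) = 0 → x ≫ ARSys.tr F h = 0 := by
  classical
  obtain ⟨s, hs, hcov⟩ := isCompact_iff_finite_and_eq_biUnion_affineOpens.mp
    (show IsCompact ((⊤ : X.Opens) : Set X) by simpa using isCompact_univ)
  haveI := hs.to_subtype
  haveI := Fintype.ofFinite s
  have hcov' : ∀ x : X, ∃ i : s, x ∈ i.1.1 := fun x => by
    have hx : x ∈ (⊤ : X.Opens) := trivial
    rw [hcov] at hx
    obtain ⟨V, hV, hxV⟩ := by simpa only [Opens.mem_iSup, exists_prop] using hx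
    exact ⟨⟨V, hV⟩, hxV⟩
  haveI : ∀ i : s, IsNoetherianRing Γ(X, i.1.1) := fun i => QCoh.noetherian_sections (X := X) i.1
  haveI : ∀ i : s, Module.Finite Γ(X, i.1.1) Γ(H, i.1.1) := fun i => QCoh.finite_sections hH i.1.2
  have hdeep := fun i : s => exists_deep_two (H := Γ(H, i.1.1)) (I.map (φsec i.1.1)) (K.ideal i.1) t
  choose k c hkc using hdeep
  let e := Finset.univ.sup k
  refine ⟨e, fun j => ⟨j + Finset.univ.sup c, Nat.le_add_right _ _, fun {T} x hx hxη => ?_⟩⟩
  obtain ⟨N, hNdef⟩ : ∃ N, N = j + Finset.univ.sup c := ⟨_, rfl⟩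
  subst hNdef
  let N := j + Finset.univ.sup c
  let p := biprod.lift (ψ N) (ηK (K ^ e) (F.obj (op N)))
  suffices h : kernel.ι p ≫ ARSys.tr F (show j ≤ N from Nat.le_add_right _ _) = 0 by
    have h0 : x ≫ p = 0 := by
      refine biprod.hom_ext _ _ ?_ ?_
      · simpa [p] using hx
      · simpa [p] using hxη
    rw [← kernel.lift_ι p x h0, Category.assoc, h, comp_zero]
  have hbi : Coh.IsQCoh (modJ (I ^ (N + 1)) H ⊞ (TK (K ^ e)).obj (F.obj (op N))) :=
    (isCoh_biprod (isCoh_modJ _ hH) (isCoh_TK (K ^ e) (hF.1 N))).1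
  refine hom_eq_zero_of_cover (QCoh.isQCoh_kernel (hF.1 N).1 hbi _) (hF.1 j).1 _ (fun i : s => i.1.1)
    (fun i => i.1.2) hcov' fun i w => ?_
  obtain ⟨m, hm⟩ : ∃ m, (kernel.ι p).app i.1.1 w = m := ⟨_, rfl⟩
  have h0 : (ψ N).app i.1.1 m = 0 := by
    rw [← hm]
    exact congr(($(show kernel.ι p ≫ ψ N = 0 by
      rw [← biprod.lift_fst (ψ N) (ηK (K ^ e) (F.obj (op N))), ← Category.assoc, kernel.condition, zero_comp])).app i.1.1 w)
  have h1 : (ηK (K ^ e) (F.obj (op N))).app i.1.1 m = 0 := by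
    rw [← hm]
    exact congr(($(show kernel.ι p ≫ ηK (K ^ e) _ = 0 by
      rw [← biprod.lift_snd (ψ N) (ηK (K ^ e) (F.obj (op N))), ← Category.assoc, kernel.condition, zero_comp])).app i.1.1 w)
  have h2 := ((ηK_app (K ^ e) (hF.1 N).1 i.1).2 m).1 h1
  rw [Scheme.IdealSheafData.ideal_pow, Pi.pow_apply] at h2
  let π' : Γ(H, i.1.1) →ₗ[Γ(X, i.1.1)] Γ(modJ (I ^ (N + 1)) H, i.1.1) :=
    { toFun := (modJπ (I ^ (N + 1)) H).app i.1.1
      map_add' := map_add _
      map_smul' := fun r m => (modJπ (I ^ (N + 1)) H).app_smul r m }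
  let ψ' : Γ(F.obj (op N), i.1.1) →ₗ[Γ(X, i.1.1)] Γ(modJ (I ^ (N + 1)) H, i.1.1) :=
    { toFun := (ψ N).app i.1.1
      map_add' := map_add _
      map_smul' := fun r m => (ψ N).app_smul r m }
  have hπs : Function.Surjective π' :=
    QCoh.app_surjective_of_epi hH.1 (isCoh_modJ _ hH).1 (modJπ (I ^ (N + 1)) H) i.1.2
  have hπk : LinearMap.ker π' = (I.map (φsec i.1.1)) ^ (N + 1) • ⊤ := by
    refine le_antisymm (fun z hz => ?_) fun z hz => ?_
    · rw [← Ideal.map_pow]; exact mem_of_π_app_eq_zero hH.1 _ i.1.2 (show π' z = 0 from hz)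
    · rw [← Ideal.map_pow] at hz; show π' z = 0; exact π_app_eq_zero H _ _ hz
  let q := (Submodule.quotEquivOfEq _ _ hπk.symm).trans (π'.quotKerEquivOfSurjective hπs)
  have key := hkc i N Γ(F.obj (op N), i.1.1) (q.symm.toLinearMap.comp ψ') ?_ ?_ m
    (Submodule.smul_mono_left (Ideal.pow_le_pow_right (Finset.le_sup (Finset.mem_univ i))) h2) ?_
  · show (ARSys.tr F (Nat.le_add_right j _)).app i.1.1 ((kernel.ι p).app i.1.1 w) = 0
    rw [hm]
    have hci : c i ≤ Finset.univ.sup c := Finset.le_sup (Finset.mem_univ i)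
    rw [← Ideal.map_pow] at key
    exact app_eq_zero_of_killed (ARSys.tr F (Nat.le_add_right j _)) (J := I ^ (N + 1 - c i))
      (fun b hb => hF.2.1 j _ (Ideal.pow_le_pow_right
        (show j + 1 ≤ j + Finset.univ.sup c + 1 - c i by omega) hb)) key
  · intro z hz b hb
    have hz' : (ψ N).app i.1.1 z = 0 := by
      have := congrArg q hz
      rwa [LinearMap.comp_apply, LinearEquiv.coe_coe, LinearEquiv.apply_symm_apply, map_zero] at this
    obtain ⟨w', hw'⟩ := QCoh.exists_kernel_lift (ψ N) i.1.1 z hz'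
    rw [← hw', ← Scheme.Modules.Hom.app_smul, hker N i.1 b (by rw [Scheme.IdealSheafData.ideal_pow]; exact hb) w',
      map_zero]
  · intro y b hb
    have h4 : (cokernel.π (ψ N)).app i.1.1 (b • q y) = 0 := by
      rw [Scheme.Modules.Hom.app_smul]
      exact hcok N i.1 b (by rw [Scheme.IdealSheafData.ideal_pow]; exact hb) _
    obtain ⟨x', hx'⟩ := exists_app_of_cokernel (hF.1 N).1 (isCoh_modJ _ hH).1 (ψ N) i.1.2 _ h4
    refine ⟨x', ?_⟩
    show q.symm (ψ' x') = b • y
    rw [show ψ' x' = b • q y from hx', map_smul, LinearEquiv.symm_apply_apply]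
  · show q.symm (ψ' m) = 0
    rw [show ψ' m = 0 from h0, map_zero]

/-- A quotient of a formal module with surjective transition maps on kernels is formal. -/
theorem isCohFormal_quotient {I : Ideal A} {F G : ℕᵒᵖ ⥤ X.Modules} (hF : Formal.IsCohFormal I F)
    (η : F ⟶ G) (hepi : ∀ n, Epi (η.app (op n))) (hG : ∀ n, Coh.IsCoh (G.obj (op n)))
    (hker : ∀ n {T : X.Modules} (x : T ⟶ F.obj (op n)), x ≫ η.app (op n) = 0 →
      ∃ (T' : X.Modules) (p : T' ⟶ T) (_ : Epi p) (y : T' ⟶ F.obj (op (n + 1))),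
        y ≫ η.app (op (n + 1)) = 0 ∧ p ≫ x = y ≫ ARSys.tr F (Nat.le_succ n)) :
    Formal.IsCohFormal I G := by
  have hkill : ∀ n, Formal.KilledBy (I ^ (n + 1)) (G.obj (op n)) := fun n b hb => by
    haveI := hepi n
    rw [← cancel_epi (η.app (op n)), ← smulMod_naturality, hF.2.1 n b hb, zero_comp, comp_zero]
  refine ⟨hG, hkill, fun n => ?_⟩
  haveI := hepi n
  haveI := hepi (n + 1)
  haveI := Algz7.epi_step hF n
  have hnat : η.app (op (n + 1)) ≫ G.map (homOfLE (Nat.le_succ n)).op =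
      ARSys.tr F (Nat.le_succ n) ≫ η.app (op n) := (η.naturality _).symm
  haveI : Epi (η.app (op (n + 1)) ≫ G.map (homOfLE (Nat.le_succ n)).op) := by rw [hnat]; exact epi_comp _ _
  haveI : Epi (G.map (homOfLE (Nat.le_succ n)).op) := epi_of_epi (η.app (op (n + 1))) _
  refine Algz7.IsQuot.mk' _ (hkill n) fun {P} φ hφ => ?_
  have h1 : Formal.smulFamily (I ^ (n + 1)) (F.obj (op (n + 1))) ≫ η.app (op (n + 1)) ≫ φ = 0 := by
    refine Sigma.hom_ext _ _ fun b => ?_
    rw [comp_zero, ← Category.assoc, Formal.smulFamily, Sigma.ι_desc, ← Category.assoc, smulMod_naturality,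
      Category.assoc, Algz7.smulMod_comp_eq_zero hφ b.2, comp_zero]
  obtain ⟨ρ, hρ⟩ := Algz7.IsQuot.desc (g := F.map (homOfLE (Nat.le_succ n)).op) (hF.2.2 n)
    (η.app (op (n + 1)) ≫ φ) h1
  have h2 : kernel.ι (η.app (op n)) ≫ ρ = 0 := by
    obtain ⟨T', p, hp, y, hy0, hy⟩ := hker n _ (kernel.condition (η.app (op n)))
    haveI := hp
    rw [← cancel_epi p, comp_zero, ← Category.assoc, hy, Category.assoc]
    show y ≫ F.map (homOfLE (Nat.le_succ n)).op ≫ ρ = 0
    rw [hρ, ← Category.assoc, hy0, zero_comp]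
  refine ⟨Abelian.epiDesc (η.app (op n)) ρ h2, ?_⟩
  rw [← cancel_epi (η.app (op (n + 1))), ← Category.assoc, hnat, Category.assoc, Abelian.comp_epiDesc]
  exact hρ

end Groth.Agent.ExistEasy
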